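import Cfsg.Agent.Lib.Sporadic.BitMatrix
import Cfsg.Agent.Lib.Sporadic.J4Rep.Data
import Cfsg.Agent.Lib.Sporadic.J4Cent.Data
import Cfsg.Agent.Lib.Sporadic.OutCert.Slp
import Cfsg.Agent.Lib.SmallGroups.M24Group

/-!
# Kernel checks for the centraliser of an involution in the fourth Janko group
-/

set_option autoImplicit false
set_option maxRecDepth 100000

namespace CfsgLib.Sporadic.J4Cent

open BitMatrix OutCert Cfsg CfsgLib.SmallGroups.Golay

/-- The matrix at a position. -/
def mat (i : ℕ) : List ℕ := ([J4Rep.mX, J4Rep.mY, J4Rep.mYi, J4Rep.mT] ++ derived).getD i (one 112)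

/-- The product of the matrices at the given positions, packed. -/
noncomputable def valK (L : List ℕ) : ℕ := forced (prodP 112 (L.map mat)) (pack 112 (one 112))

/-- Two products agree. -/
noncomputable def eqK (L L' : List ℕ) : Bool := Nat.beq (valK L) (valK L')

/-- The image of a bit string, for kernel evaluation. -/
noncomputable def apF (B : List ℕ) : ℕ → ℕ :=
  List.rec (motive := fun _ => ℕ → ℕ) (fun _ => 0)
    (fun b _ ih v => forced (fun w => Nat.xor (cond (Nat.beq (Nat.mod w 2) 1) b 0) (ih (Nat.div w 2))) v) B

theorem apF_eq : ∀ (B : List ℕ) (v : ℕ), apF B v = apL B v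
  | [], _ => rfl
  | b :: B, v => by
    show forced (fun w => Nat.xor (cond (Nat.beq (Nat.mod w 2) 1) b 0) (apF B (Nat.div w 2))) v = _
    rw [forced_eq, apF_eq B, apL, show Nat.beq (Nat.mod v 2) 1 = decide (v % 2 = 1) from ?_]
    · by_cases h : v % 2 = 1 <;> simp [h] <;> rfl
    · rw [Bool.eq_iff_iff, Nat.beq_eq, decide_eq_true_iff]; rfl

theorem lengths : defWords.length = 22 ∧ derived.length = 22 ∧ iQ.length = 12 ∧ iG.length = 4 ∧
    modR.length = 18 ∧ modRi.length = 18 ∧ permG.length = 18 ∧ normQ.length = 5 := by decide +kernel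

theorem mat_ok : ∀ i < 26, ok 112 (mat i) = true := by decide +kernel

theorem words_lt : ∀ i < 22, ∀ j ∈ defWords.getD i [], j < 4 + i := by decide +kernel

theorem words_eq : ∀ i < 22, eqK (defWords.getD i []) [4 + i] = true := by decide +kernel

theorem inv_a : eqK [iA, iA] [] = true := by decide +kernel

theorem a_entry : (List.range 112).any (fun i => (List.range 112).any fun j =>
    ((mat iA).getD i 0).testBit j && !(i == j)) = true := by decide +kernel

theorem omega_entry : (List.range 112).any (fun i => (List.range 112).any fun j =>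
    ((mat iW).getD i 0).testBit j && !(i == j)) = true := by decide +kernel

theorem comm_a : ∀ i < 17, eqK [iA, (iQ ++ iW :: iG).getD i 0] [(iQ ++ iW :: iG).getD i 0, iA] = true := by
  decide +kernel

theorem omega_cube : eqK [iW, iW, iW] [] = true := by decide +kernel

theorem squares : ∀ i < 12, eqK [iQ.getD i 0, iQ.getD i 0] (List.replicate (sqQ.getD i 0) iA) = true := by
  decide +kernel

theorem comms : ∀ i < 12, ∀ j < 12, eqK [iQ.getD i 0, iQ.getD j 0]
    ([iQ.getD j 0, iQ.getD i 0] ++ if (commQ.getD i 0).testBit j then [iA] else []) = true := by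
  decide +kernel

theorem duals : ∀ i < 12, ((dualQ.getD i []).all fun k => Nat.blt k 12) = true ∧
    (dualQ.getD i []).foldr (fun k v => commQ.getD k 0 ^^^ v) 0 = 2 ^ i := by decide +kernel

theorem norms : ∀ r < 5, ∀ i < 12,
    (((normQ.getD r []).getD i []).all fun k => (iA :: iQ).contains k) = true ∧
    eqK [iQ.getD i 0, (iG ++ [iW]).getD r 0]
      ((iG ++ [iW]).getD r 0 :: (normQ.getD r []).getD i []) = true := by decide +kernel

/-- The positions of the eighteen generators. -/
def gen18 : List ℕ := iA :: iQ ++ iW :: iG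

theorem gens_lt : ∀ i < 18, gen18.getD i 0 < 26 := by decide +kernel

theorem intertwine : ∀ i < 18,
    (mat (gen18.getD i 0)).map (apF projP) = projP.map (apF (modR.getD i [])) := by decide +kernel

theorem left_inv : projP.length = 112 ∧ projL.length = 10 ∧ projL.map (apL projP) = one 10 := by
  decide +kernel

theorem mod_inv : ∀ i < 18, (modR.getD i []).length = 10 ∧ (modRi.getD i []).length = 10 ∧
    (modR.getD i []).map (apL (modRi.getD i [])) = one 10 ∧
    (modRi.getD i []).map (apL (modR.getD i [])) = one 10 := by decide +kernel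

theorem perms_valid : ∀ i < 18, validK 5 24 (permG.getD i (0, 0)).1 (permG.getD i (0, 0)).2 = true := by
  decide +kernel

theorem perms_code : ∀ i < 18, ∀ k < 12,
    isCW (mask fun p => word (bas k) (pt (lk 5 (permG.getD i (0, 0)).1 (idx p)))) = true := by decide +kernel

theorem labels_mod : ∀ i < 18, ∀ j < 24,
    apL (modR.getD i []) (label.getD (lk 5 (permG.getD i (0, 0)).1 j) 0) = label.getD j 0 := by
  decide +kernel

theorem labels_inj : ∀ i < 24, label.getD i 0 < 2 ^ 10 ∧ (label.getD i 0 = 0 → i = 0 ∨ i = 23) ∧
    ∀ j < 24, label.getD i 0 = label.getD j 0 → i = j ∨ label.getD i 0 = 0 := by decide +kernel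

theorem labels_zero : label.getD 0 0 = 0 ∧ label.getD 23 0 = 0 := by decide +kernel

/-- The four permutations to start from. -/
def permGens : List ℕ := (List.range 4).map fun k => (permG.getD (14 + k) (0, 0)).1

/-- The chain. -/
noncomputable def chainLv : List Level :=
  chain.map fun e => ⟨e.1, e.2.1.map (slpVal permGens chainSlp), e.2.2⟩

theorem slp_ok : slpCheck 5 24 permGens chainSlp = true := by decide +kernel

theorem chain_lt : (chain.all fun e => e.2.1.all fun k => Nat.blt k (4 + chainSlp.length)) = true := by
  decide +kernel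

theorem levels_ok : levelsK 5 24 chainLv = true ∧
    (chainLv.map fun L => L.orb.length + 1).prod = 887040 := by decide +kernel

end CfsgLib.Sporadic.J4Cent
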