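import Cfsg.Agent.Lib.Sporadic.J4Rep
import Cfsg.Agent.Lib.Sporadic.J4Cent.Checks

/-!
# Elements of the presented fourth Janko group with their matrices
-/

set_option autoImplicit false
set_option maxRecDepth 100000

namespace CfsgLib.Sporadic.J4Cent

open BitMatrix Cfsg.Spor

attribute [local irreducible] BitMatrix.mulP BitMatrix.ok BitMatrix.one isOne dec valK eqK mat derived

/-- The elements up to position `4 + n`. -/
noncomputable def els : ℕ → List J4
  | 0 => [PresentedGroup.of .x, PresentedGroup.of .y, (PresentedGroup.of .y)⁻¹, PresentedGroup.of .t]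
  | n + 1 => els n ++ [((defWords.getD n []).map fun j => (els n).getD j 1).prod]

/-- The element at a position. -/
noncomputable def el (i : ℕ) : J4 := (els 22).getD i 1

/-- The matrix of an element. -/
noncomputable def ρ (g : J4) : J4Rep.M112 := (J4Rep.rep g).val

theorem ρ_one : ρ 1 = 1 := by simp [ρ]

theorem ρ_mul (g h : J4) : ρ (g * h) = ρ g * ρ h := by simp [ρ]

theorem length_els : ∀ n, (els n).length = 4 + n
  | 0 => rfl
  | n + 1 => by simp [els, length_els n]; omega

theorem ρ_prod (L : List ℕ) (f : ℕ → J4) (h : ∀ i ∈ L, ρ (f i) = dec 112 (mat i)) :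
    ρ (L.map f).prod = (L.map fun i => dec 112 (mat i)).prod := by
  induction L with
  | nil => simpa using ρ_one
  | cons a l ih =>
    rw [List.map_cons, List.prod_cons, List.map_cons, List.prod_cons, ρ_mul, h a List.mem_cons_self,
      ih fun i hi => h i (List.mem_cons_of_mem _ hi)]

theorem eqK_dec {L L' : List ℕ} (hL : ∀ i ∈ L, i < 26) (hL' : ∀ i ∈ L', i < 26) (h : eqK L L' = true) :
    (L.map fun i => dec 112 (mat i)).prod = (L'.map fun i => dec 112 (mat i)).prod := by
  have h0 : Good 112 (pack 112 (BitMatrix.one 112)) 1 :=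
    ⟨BitMatrix.one 112, (ok_iff.1 ok_one).1, one_lt, rfl, dec_one⟩
  have hok : ∀ M : List ℕ, (∀ i ∈ M, i < 26) → ∀ B ∈ M.map mat, ok 112 B = true := fun M hM B hB => by
    obtain ⟨i, hi, rfl⟩ := List.mem_map.1 hB
    exact mat_ok i (hM i hi)
  obtain ⟨A, hAl, hA, hP, hM⟩ := Good.prodP _ (hok L hL) h0
  obtain ⟨A', hAl', hA', hP', hM'⟩ := Good.prodP _ (hok L' hL') h0
  rw [one_mul, List.map_map] at hM hM'
  have e : valK L = valK L' := by
    unfold eqK at h
    exact Nat.eq_of_beq_eq_true h
  unfold valK at e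
  rw [forced_eq, forced_eq, hP, hP'] at e
  have e' : A = A' := by
    have h1 := unpack_pack A hA
    have h2 := unpack_pack A' hA'
    rw [hAl, e] at h1
    rw [hAl'] at h2
    exact h1.symm.trans h2
  rw [e'] at hM
  exact hM.symm.trans hM'

theorem mat_base : mat 0 = J4Rep.lett 0 ∧ mat 1 = J4Rep.lett 1 ∧ mat 2 = J4Rep.lett 2 ∧
    mat 3 = J4Rep.lett 3 := by
  unfold mat
  exact ⟨rfl, rfl, rfl, rfl⟩

theorem ρ_of (g : J4.Gen) : ρ (PresentedGroup.of g) = (J4Rep.uJ g).val := by
  rw [ρ, J4Rep.rep, PresentedGroup.toGroup.of]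

theorem ρ_els : ∀ n ≤ 22, ∀ i < 4 + n, ρ ((els n).getD i 1) = dec 112 (mat i)
  | 0, _, i, hi => by
    obtain ⟨m0, m1, m2, m3⟩ := mat_base
    rcases (show i = 0 ∨ i = 1 ∨ i = 2 ∨ i = 3 by omega) with rfl | rfl | rfl | rfl
    · rw [m0]; exact ρ_of .x
    · rw [m1]; exact ρ_of .y
    · rw [m2]
      show ρ (PresentedGroup.of J4.Gen.y)⁻¹ = _
      rw [ρ, map_inv, J4Rep.rep, PresentedGroup.toGroup.of]
      rfl
    · rw [m3]; exact ρ_of .t
  | n + 1, hn, i, hi => by
    have ih := ρ_els n (by omega)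
    rcases Nat.lt_or_ge i (4 + n) with h | h
    · rw [els, List.getD_append _ _ _ _ (by rw [length_els]; exact h)]
      exact ih i h
    · obtain rfl : i = 4 + n := by omega
      rw [els, List.getD_append_right _ _ _ _ (by rw [length_els]), length_els, Nat.sub_self,
        List.getD_cons_zero, ρ_prod _ _ fun j hj => ih j (words_lt n (by omega) j hj),
        eqK_dec (fun j hj => by have := words_lt n (by omega) j hj; omega) (by simp; omega)
          (words_eq n (by omega))]
      simp

theorem ρ_el {i : ℕ} (hi : i < 26) : ρ (el i) = dec 112 (mat i) := ρ_els 22 le_rfl i hi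

/-- Equalities of products follow from the matrices when the representation is faithful. -/
theorem prod_eq (hρ : Function.Injective J4Rep.rep) {L L' : List ℕ} (h : eqK L L' = true)
    (hL : ∀ i ∈ L, i < 26) (hL' : ∀ i ∈ L', i < 26) : (L.map el).prod = (L'.map el).prod := by
  refine hρ (Units.ext ?_)
  show ρ _ = ρ _
  rw [ρ_prod _ _ fun i hi => ρ_el (hL i hi), ρ_prod _ _ fun i hi => ρ_el (hL' i hi)]
  exact eqK_dec hL hL' h

theorem el_ne_one {k : ℕ} (hk : k < 26) (h : (List.range 112).any (fun i => (List.range 112).any fun j =>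
    ((mat k).getD i 0).testBit j && !(i == j)) = true) : el k ≠ 1 := by
  intro he
  simp only [List.any_eq_true, List.mem_range, Bool.and_eq_true, Bool.not_eq_true', beq_eq_false_iff_ne] at h
  obtain ⟨i, hi, j, hj, hb, hne⟩ := h
  have e := congrArg ρ he
  rw [ρ_el hk, ρ_one] at e
  have e' := congrFun (congrFun e ⟨i, hi⟩) ⟨j, hj⟩
  unfold dec at e'
  rw [if_pos hb, Matrix.one_apply_ne (by simpa [Fin.ext_iff] using hne)] at e'
  exact one_ne_zero e'

end CfsgLib.Sporadic.J4Cent
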