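import Cfsg.Agent.Lib.Sporadic.ExtraspecialCrit
import Cfsg.Agent.Lib.Sporadic.J4Cent.Elements

/-!
# An extraspecial group of order `2 ^ 13` in the presented fourth Janko group

Everything assumes that the representation of degree 112 is faithful.
-/

set_option autoImplicit false
set_option maxRecDepth 100000

namespace CfsgLib.Sporadic.J4Cent

open Cfsg.Spor
open scoped commutatorElement

attribute [local irreducible] eqK el

/-- The involution. -/
noncomputable def za : J4 := el iA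

/-- The twelve elements generating with it the extraspecial group. -/
noncomputable def qq (i : ℕ) : J4 := el (iQ.getD i 0)

/-- The element of order three. -/
noncomputable def om : J4 := el iW

/-- The eighteen generators. -/
noncomputable def gen (i : ℕ) : J4 := el (gen18.getD i 0)

/-- The extraspecial group. -/
noncomputable def Qs : Subgroup J4 := Subgroup.closure ({za} ∪ {g | ∃ i < 12, qq i = g})

/-- The group generated by all eighteen. -/
noncomputable def Ss : Subgroup J4 := Subgroup.closure {g | ∃ i < 18, gen i = g}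

theorem gen_q : ∀ i < 12, gen18.getD (1 + i) 0 = iQ.getD i 0 := by decide +kernel

theorem gen_all : gen18.getD 0 0 = iA ∧ gen18.getD 13 0 = iW ∧
    ∀ r < 4, gen18.getD (14 + r) 0 = iG.getD r 0 := by decide +kernel

theorem idx_bounds : iA < 26 ∧ iW < 26 ∧ (∀ i < 12, iQ.getD i 0 < 26) ∧
    ∀ i < 17, (iQ ++ iW :: iG).getD i 0 < 26 := by decide +kernel

theorem gen18_succ : ∀ i < 17, gen18.getD (1 + i) 0 = (iQ ++ iW :: iG).getD i 0 := by decide +kernel

/-- Adjoining an element whose square is inside, normalising, at most doubles the order. -/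
theorem card_sup_le {G : Type*} [Group G] [Finite G] (H : Subgroup G) (q : G)
    (hn : ∀ h ∈ H, q * h * q⁻¹ ∈ H) (hq : q * q ∈ H) :
    Nat.card ↥(H ⊔ Subgroup.zpowers q) ≤ 2 * Nat.card H := by
  have hn' : ∀ h ∈ H, q⁻¹ * h * q ∈ H := fun h hh => by
    have := mul_mem (mul_mem (inv_mem hq) (hn h hh)) hq
    convert this using 1
    group
  let S : Set G := (H : Set G) ∪ (fun h => h * q) '' H
  let K : Subgroup G :=
    { carrier := S
      one_mem' := Or.inl (one_mem _)
      mul_mem' := by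
        rintro x y (hx | ⟨h, hh, rfl⟩) (hy | ⟨k, hk, rfl⟩)
        · exact Or.inl (mul_mem hx hy)
        · exact Or.inr ⟨x * k, mul_mem hx hk, by simp [mul_assoc]⟩
        · exact Or.inr ⟨h * (q * y * q⁻¹), mul_mem hh (hn y hy), by group⟩
        · refine Or.inl ?_
          show h * q * (k * q) ∈ H
          rw [show h * q * (k * q) = h * (q * k * q⁻¹) * (q * q) by group]
          exact mul_mem (mul_mem hh (hn k hk)) hq
      inv_mem' := by
        rintro x (hx | ⟨h, hh, rfl⟩)
        · exact Or.inl (inv_mem hx)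
        · exact Or.inr ⟨q⁻¹ * h⁻¹ * q * (q * q)⁻¹, mul_mem (hn' _ (inv_mem hh)) (inv_mem hq), by group⟩ }
  have hle : H ⊔ Subgroup.zpowers q ≤ K :=
    sup_le (fun h hh => Or.inl hh) (Subgroup.zpowers_le.2 (Or.inr ⟨1, one_mem _, one_mul q⟩))
  refine (Subgroup.card_le_of_le hle).trans ?_
  rw [← SetLike.coe_sort_coe, Nat.card_coe_set_eq, ← SetLike.coe_sort_coe, Nat.card_coe_set_eq, two_mul]
  exact (Set.ncard_union_le _ _).trans (Nat.add_le_add_left (Set.ncard_image_le (Set.toFinite _)) _)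

section
variable (hρ : Function.Injective J4Rep.rep)
include hρ

theorem za_sq : za * za = 1 := by
  have := prod_eq hρ inv_a (by simp [idx_bounds.1]) (by simp)
  simpa [za] using this

omit hρ in
theorem za_ne_one : za ≠ 1 := el_ne_one idx_bounds.1 a_entry

theorem orderOf_za : orderOf za = 2 :=
  orderOf_eq_prime (by rw [pow_two, za_sq hρ]) za_ne_one

theorem mem_Z {g : J4} : g ∈ Subgroup.zpowers za ↔ g = 1 ∨ g = za := by
  constructor
  · intro h
    obtain ⟨n, rfl⟩ := Subgroup.mem_zpowers_iff.1 h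
    rcases Int.even_or_odd' n with ⟨k, rfl | rfl⟩
    · left; rw [zpow_mul, zpow_two, za_sq hρ, one_zpow]
    · right; rw [zpow_add, zpow_mul, zpow_two, za_sq hρ, one_zpow, one_mul, zpow_one]
  · rintro (rfl | rfl)
    exacts [one_mem _, Subgroup.mem_zpowers _]

theorem za_comm {i : ℕ} (hi : i < 18) : Commute za (gen i) := by
  rcases i with _ | i
  · rw [gen, gen_all.1]; exact Commute.refl _
  · rw [show i + 1 = 1 + i by omega, gen, gen18_succ i (by omega)]
    have hb := idx_bounds.2.2.2 i (by omega)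
    have := prod_eq hρ (comm_a i (by omega)) (by simp [idx_bounds.1, hb, -List.getD_eq_getElem?_getD]) (by simp [idx_bounds.1, hb, -List.getD_eq_getElem?_getD])
    simpa [za, Commute, SemiconjBy] using this

theorem Ss_le_centralizer : Ss ≤ Subgroup.centralizer {za} := by
  rw [Ss, Subgroup.closure_le]
  rintro _ ⟨i, hi, rfl⟩
  rw [SetLike.mem_coe, Subgroup.mem_centralizer_singleton_iff]
  exact (za_comm hρ hi).eq.symm

omit hρ in
theorem qq_eq {i : ℕ} (hi : i < 12) : qq i = gen (1 + i) := by rw [qq, gen, gen_q i hi]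

omit hρ in
theorem gen_mem {i : ℕ} (hi : i < 18) : gen i ∈ Ss := Subgroup.subset_closure ⟨i, hi, rfl⟩

omit hρ in
theorem za_mem_Q : za ∈ Qs := Subgroup.subset_closure (Or.inl rfl)

omit hρ in
theorem qq_mem_Q {i : ℕ} (hi : i < 12) : qq i ∈ Qs := Subgroup.subset_closure (Or.inr ⟨i, hi, rfl⟩)

omit hρ in
theorem Qs_le_Ss : Qs ≤ Ss := by
  rw [Qs, Subgroup.closure_le]
  rintro _ (rfl | ⟨i, hi, rfl⟩)
  · rw [za, ← gen_all.1]; exact gen_mem (by norm_num)
  · rw [qq_eq hi]; exact gen_mem (by omega)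

theorem za_central {g : J4} (hg : g ∈ Qs) : Commute za g := by
  have := Subgroup.mem_centralizer_singleton_iff.1 (Ss_le_centralizer hρ (Qs_le_Ss hg))
  exact this.symm

theorem qq_sq {i : ℕ} (hi : i < 12) : qq i * qq i ∈ Subgroup.zpowers za := by
  have hb := idx_bounds.2.2.1 i hi
  have := prod_eq hρ (squares i hi) (by simp [hb, -List.getD_eq_getElem?_getD])
    (fun j hj => by rw [List.eq_of_mem_replicate hj]; exact idx_bounds.1)
  simp only [List.map_cons, List.map_nil, List.prod_cons, List.prod_nil, mul_one, List.map_replicate,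
    List.prod_replicate] at this
  rw [qq, this]
  exact pow_mem (Subgroup.mem_zpowers _) _

theorem qq_swap {i j : ℕ} (hi : i < 12) (hj : j < 12) :
    qq i * qq j = qq j * qq i * (if (commQ.getD i 0).testBit j then za else 1) := by
  have hb := idx_bounds.2.2.1 i hi
  have hb' := idx_bounds.2.2.1 j hj
  have := prod_eq hρ (comms i hi j hj) (by simp [hb, hb', -List.getD_eq_getElem?_getD]) (fun k hk => by
    split at hk <;> simp [-List.getD_eq_getElem?_getD] at hk <;> rcases hk with rfl | rfl | rfl <;> first | exact hb | exact hb' |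
      exact idx_bounds.1)
  split at this <;> rename_i hh <;>
    simp only [List.cons_append, List.nil_append, List.map_cons, List.map_nil, List.prod_cons, List.prod_nil,
      mul_one] at this
  · rw [if_pos hh, qq, qq, za, mul_assoc]; exact this
  · rw [if_neg hh, qq, qq, mul_one]; exact this

theorem qq_comm {i j : ℕ} (hi : i < 12) (hj : j < 12) :
    ⁅qq i, qq j⁆ = if (commQ.getD i 0).testBit j then za else 1 := by
  have hc : ∀ g ∈ Qs, Commute (if (commQ.getD i 0).testBit j then za else 1) g := by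
    intro g hg
    split
    · exact za_central hρ hg
    · exact Commute.one_left g
  rw [commutatorElement_def, qq_swap hρ hi hj]
  generalize hc' : (if (commQ.getD i 0).testBit j then za else 1) = c at hc
  rw [mul_assoc (qq j) (qq i) c, ← (hc _ (qq_mem_Q hi)).eq, ← mul_assoc, ← (hc _ (qq_mem_Q hj)).eq]
  group

theorem comm_mul_left {a b q : J4} (ha : a ∈ Qs) (hq : q ∈ Qs) (hb : ⁅b, q⁆ ∈ Subgroup.zpowers za) :
    ⁅a * b, q⁆ = ⁅a, q⁆ * ⁅b, q⁆ := by
  have hc : ∀ g ∈ Qs, Commute ⁅b, q⁆ g := fun g hg => by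
    rcases (mem_Z hρ).1 hb with e | e <;> rw [e]
    · exact Commute.one_left g
    · exact za_central hρ hg
  have e : ⁅a * b, q⁆ = a * ⁅b, q⁆ * a⁻¹ * ⁅a, q⁆ := by
    simp only [commutatorElement_def]; group
  rw [e, ← (hc a ha).eq, mul_inv_cancel_right]
  exact (hc _ (by rw [commutatorElement_def]; exact mul_mem (mul_mem (mul_mem ha hq) (inv_mem ha)) (inv_mem hq))).eq

theorem za_comm_Z {z g : J4} (hz : z ∈ Subgroup.zpowers za) (hg : g ∈ Qs) : Commute z g := by
  rcases (mem_Z hρ).1 hz with e | e <;> rw [e]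
  · exact Commute.one_left g
  · exact za_central hρ hg

theorem comm_qq {a : J4} (ha : a ∈ Qs) {j : ℕ} (hj : j < 12) : ⁅a, qq j⁆ ∈ Subgroup.zpowers za := by
  suffices H : a ∈ Qs ∧ ⁅a, qq j⁆ ∈ Subgroup.zpowers za from H.2
  unfold Qs at ha
  induction ha using Subgroup.closure_induction with
  | mem x hx =>
    rcases hx with rfl | ⟨i, hi, rfl⟩
    · refine ⟨za_mem_Q, ?_⟩
      rw [commutatorElement_eq_one_iff_commute.2 (za_central hρ (qq_mem_Q hj))]
      exact one_mem _
    · refine ⟨qq_mem_Q hi, ?_⟩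
      rw [qq_comm hρ hi hj]
      split
      · exact Subgroup.mem_zpowers za
      · exact one_mem _
  | one => exact ⟨one_mem _, by rw [commutatorElement_one_left]; exact one_mem _⟩
  | mul x y _ _ hx hy =>
    exact ⟨mul_mem hx.1 hy.1, by rw [comm_mul_left hρ hx.1 (qq_mem_Q hj) hy.2]; exact mul_mem hx.2 hy.2⟩
  | inv x _ hx =>
    refine ⟨inv_mem hx.1, ?_⟩
    have e : ⁅x⁻¹, qq j⁆ = x⁻¹ * ⁅x, qq j⁆⁻¹ * x := by simp only [commutatorElement_def]; group
    rw [e, mul_assoc, (za_comm_Z hρ (inv_mem hx.2) hx.1).eq, inv_mul_cancel_left]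
    exact inv_mem hx.2

theorem comm_Q {a b : J4} (ha : a ∈ Qs) (hb : b ∈ Qs) : ⁅a, b⁆ ∈ Subgroup.zpowers za := by
  have h : ∀ {x : J4}, x ∈ Qs → ∀ {y : J4}, ⁅y, x⁆ ∈ Subgroup.zpowers za → ⁅x, y⁆ ∈ Subgroup.zpowers za :=
    fun _ _ h => by rw [← commutatorElement_inv]; exact inv_mem h
  suffices H : b ∈ Qs ∧ ⁅b, a⁆ ∈ Subgroup.zpowers za from h ha H.2
  unfold Qs at hb
  induction hb using Subgroup.closure_induction with
  | mem x hx =>
    rcases hx with rfl | ⟨j, hj, rfl⟩
    · refine ⟨za_mem_Q, ?_⟩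
      rw [commutatorElement_eq_one_iff_commute.2 (za_central hρ ha)]
      exact one_mem _
    · exact ⟨qq_mem_Q hj, h (qq_mem_Q hj) (comm_qq hρ ha hj)⟩
  | one => exact ⟨one_mem _, by rw [commutatorElement_one_left]; exact one_mem _⟩
  | mul x y _ _ hx hy => exact ⟨mul_mem hx.1 hy.1, by rw [comm_mul_left hρ hx.1 ha hy.2]; exact mul_mem hx.2 hy.2⟩
  | inv x _ hx =>
    refine ⟨inv_mem hx.1, ?_⟩
    have e : ⁅x⁻¹, a⁆ = x⁻¹ * ⁅x, a⁆⁻¹ * x := by simp only [commutatorElement_def]; group
    rw [e, mul_assoc, (za_comm_Z hρ (inv_mem hx.2) hx.1).eq, inv_mul_cancel_left]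
    exact inv_mem hx.2

theorem sq_Q {a : J4} (ha : a ∈ Qs) : a * a ∈ Subgroup.zpowers za := by
  suffices H : a ∈ Qs ∧ a * a ∈ Subgroup.zpowers za from H.2
  unfold Qs at ha
  induction ha using Subgroup.closure_induction with
  | mem x hx =>
    rcases hx with rfl | ⟨i, hi, rfl⟩
    · exact ⟨za_mem_Q, mul_mem (Subgroup.mem_zpowers _) (Subgroup.mem_zpowers _)⟩
    · exact ⟨qq_mem_Q hi, qq_sq hρ hi⟩
  | one => exact ⟨one_mem _, by rw [one_mul]; exact one_mem _⟩
  | mul x y _ _ hx hy =>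
    refine ⟨mul_mem hx.1 hy.1, ?_⟩
    have hc := comm_Q hρ hy.1 hx.1
    have e : x * y * (x * y) = x * ⁅y, x⁆ * x * (y * y) := by simp only [commutatorElement_def]; group
    rw [e, ← (za_comm_Z hρ hc hx.1).eq, mul_assoc ⁅y, x⁆]
    exact mul_mem (mul_mem hc hx.2) hy.2
  | inv x _ hx => exact ⟨inv_mem hx.1, by rw [← mul_inv_rev]; exact inv_mem hx.2⟩

omit hρ in
/-- The first members of the chain. -/
def Hk (k : ℕ) : Subgroup J4 := Subgroup.closure ({za} ∪ {g | ∃ i < k, qq i = g})

theorem card_Hk_le [Finite J4] : ∀ k ≤ 12, Nat.card (Hk k) ≤ 2 ^ (k + 1)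
  | 0, _ => by
    have : Hk 0 = Subgroup.zpowers za := by
      rw [Hk, Subgroup.zpowers_eq_closure]; congr 1; ext g; simp
    rw [this, Nat.card_zpowers, orderOf_za hρ]
    rfl
  | k + 1, hk => by
    have hZ : ∀ z ∈ Subgroup.zpowers za, z ∈ Hk k :=
      fun z hz => (Subgroup.zpowers_le.2 (Subgroup.subset_closure (Or.inl rfl) : za ∈ Hk k)) hz
    have hsub : Hk k ≤ Qs := by
      rw [Hk, Subgroup.closure_le]
      rintro _ (rfl | ⟨i, hi, rfl⟩)
      exacts [za_mem_Q, qq_mem_Q (by omega)]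
    have hle : Hk (k + 1) ≤ Hk k ⊔ Subgroup.zpowers (qq k) := by
      rw [Hk, Subgroup.closure_le]
      rintro _ (rfl | ⟨i, hi, rfl⟩)
      · exact (le_sup_left : Hk k ≤ _) (Subgroup.subset_closure (Or.inl rfl))
      · rcases Nat.lt_or_ge i k with h | h
        · exact (le_sup_left : Hk k ≤ _) (Subgroup.subset_closure (Or.inr ⟨i, h, rfl⟩))
        · obtain rfl : i = k := by omega
          exact (le_sup_right : Subgroup.zpowers (qq i) ≤ _) (Subgroup.mem_zpowers _)
    refine (Subgroup.card_le_of_le hle).trans ((card_sup_le _ _ (fun h hh => ?_)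
      (hZ _ (qq_sq hρ (by omega)))).trans ?_)
    · have e : qq k * h * (qq k)⁻¹ = ⁅qq k, h⁆ * h := by simp only [commutatorElement_def]; group
      rw [e]
      exact mul_mem (hZ _ (comm_Q hρ (qq_mem_Q (by omega)) (hsub hh))) hh
    · calc 2 * Nat.card (Hk k) ≤ 2 * 2 ^ (k + 1) := Nat.mul_le_mul_left 2 (card_Hk_le k (by omega))
        _ = _ := by ring

theorem card_Q_le [Finite J4] : Nat.card Qs ≤ 2 ^ 13 := card_Hk_le hρ 12 le_rfl

/-- The commutators with the twelve elements. -/
noncomputable def chi : Qs →* (Fin 12 → Subgroup.zpowers za) :=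
  MonoidHom.mk' (fun a j => ⟨⁅(a : J4), qq j⁆, comm_qq hρ a.2 j.2⟩) fun a b => funext fun j =>
    Subtype.ext (comm_mul_left hρ a.2 (qq_mem_Q j.2) (comm_qq hρ b.2 j.2))

omit hρ in
theorem dual_mem {L : List ℕ} (hL : ∀ k ∈ L, k < 12) : (L.map qq).prod ∈ Qs :=
  list_prod_mem fun g hg => by
    obtain ⟨k, hk, rfl⟩ := List.mem_map.1 hg
    exact qq_mem_Q (hL k hk)

theorem dual_comm {L : List ℕ} (hL : ∀ k ∈ L, k < 12) {j : ℕ} (hj : j < 12) :
    ⁅(L.map qq).prod, qq j⁆ =
      if (L.foldr (fun k v => commQ.getD k 0 ^^^ v) 0).testBit j then za else 1 := by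
  induction L with
  | nil => simp
  | cons a L ih =>
    have hL' : ∀ k ∈ L, k < 12 := fun k hk => hL k (List.mem_cons_of_mem _ hk)
    have ha := hL a List.mem_cons_self
    rw [List.map_cons, List.prod_cons,
      comm_mul_left hρ (qq_mem_Q ha) (qq_mem_Q hj) (comm_qq hρ (dual_mem hL') hj),
      qq_comm hρ ha hj, ih hL', List.foldr_cons, Nat.testBit_xor]
    cases (commQ.getD a 0).testBit j <;> cases (L.foldr (fun k v => commQ.getD k 0 ^^^ v) 0).testBit j <;>
      simp [za_sq hρ]

theorem chi_surjective : Function.Surjective (chi hρ) := by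
  rw [← MonoidHom.range_eq_top, Subgroup.eq_top_iff']
  intro x
  refine Subgroup.pi_mem_of_mulSingle_mem _ fun i => ?_
  rcases (mem_Z hρ).1 (x i).2 with h | h
  · rw [show x i = 1 from Subtype.ext h, Pi.mulSingle_one]
    exact one_mem _
  · obtain ⟨hd, hf⟩ := duals i i.2
    have hd' : ∀ k ∈ dualQ.getD i [], k < 12 := fun k hk => Nat.le_of_ble_eq_true (List.all_eq_true.1 hd k hk)
    refine ⟨⟨_, dual_mem hd'⟩, funext fun j => Subtype.ext ?_⟩
    show ⁅((dualQ.getD i []).map qq).prod, qq j⁆ = _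
    rw [dual_comm hρ hd' j.2, hf, Nat.testBit_two_pow, Pi.mulSingle_apply]
    by_cases e : j = i
    · subst e; simp [h]
    · have e' : ¬ (i : ℕ) = (j : ℕ) := fun h' => e (Fin.ext h'.symm)
      rw [if_neg e, if_neg (by simpa using e')]
      rfl

theorem card_Q [Finite J4] : Nat.card Qs = 2 ^ 13 ∧ Nat.card (chi hρ).ker = 2 := by
  have hz : Nat.card (Subgroup.zpowers za) = 2 := by rw [Nat.card_zpowers, orderOf_za hρ]
  have h := Subgroup.card_mul_index (chi hρ).ker
  rw [Subgroup.index_ker, MonoidHom.range_eq_top.2 (chi_surjective hρ), Subgroup.card_top,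
    Nat.card_fun, hz, Nat.card_fin] at h
  have hle := card_Q_le hρ
  have h2 : 2 ≤ Nat.card (chi hρ).ker := by
    rw [← hz]
    refine Nat.card_le_card_of_injective (fun g => ⟨⟨g.1, Subgroup.zpowers_le.2 za_mem_Q g.2⟩, ?_⟩)
      fun g g' e => Subtype.ext (congrArg (fun t : (chi hρ).ker => ((t : Qs) : J4)) e)
    refine MonoidHom.mem_ker.2 (funext fun j => Subtype.ext ?_)
    exact commutatorElement_eq_one_iff_commute.2 (za_comm_Z hρ g.2 (qq_mem_Q j.2))
  constructor <;> omega

theorem Q_extraspecial [Finite J4] : Cfsg.IsExtraspecial 2 Qs := by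
  obtain ⟨hQ, hk⟩ := card_Q hρ
  let z : Qs := ⟨za, za_mem_Q⟩
  have hz : z ≠ 1 := fun e => za_ne_one (congrArg Subtype.val e)
  have hc : z ∈ Subgroup.center Qs :=
    Subgroup.mem_center_iff.2 fun g => Subtype.ext (za_central hρ g.2).eq.symm
  have lift : ∀ g : Qs, (g : J4) ∈ Subgroup.zpowers za → g = 1 ∨ g = z := fun g hg =>
    ((mem_Z hρ).1 hg).imp (fun e => Subtype.ext e) fun e => Subtype.ext e
  refine CfsgLib.Sporadic.ExtraspecialCrit.isExtraspecial (IsPGroup.of_card hQ) z hz hc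
    (fun a b => lift _ (comm_Q hρ a.2 b.2)) (fun a => lift _ (sq_Q hρ a.2)) (fun a ha => ?_) ?_
  · have hak : a ∈ (chi hρ).ker := MonoidHom.mem_ker.2 (funext fun j => Subtype.ext
      (commutatorElement_eq_one_iff_commute.2
        (congrArg Subtype.val (Subgroup.mem_center_iff.1 ha ⟨qq j, qq_mem_Q j.2⟩)).symm))
    have hzk : z ∈ (chi hρ).ker := MonoidHom.mem_ker.2 (funext fun j => Subtype.ext
      (commutatorElement_eq_one_iff_commute.2 (za_central hρ (qq_mem_Q j.2))))
    by_contra hne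
    push Not at hne
    have h3 : 3 ≤ Nat.card (chi hρ).ker := by
      have hs : ({1, z, a} : Set Qs) ⊆ (chi hρ).ker := by
        rintro x (rfl | rfl | rfl)
        exacts [one_mem _, hzk, hak]
      have := Set.ncard_le_ncard hs (Set.toFinite _)
      rw [← SetLike.coe_sort_coe, Nat.card_coe_set_eq]
      refine le_trans ?_ this
      rw [Set.ncard_insert_of_notMem (by simp [Ne.symm hz, Ne.symm hne.1]) (Set.toFinite _),
        Set.ncard_pair (Ne.symm hne.2)]
    omega
  · by_contra hh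
    push Not at hh
    obtain ⟨x, hx⟩ := chi_surjective hρ (Pi.mulSingle 0 ⟨za, Subgroup.mem_zpowers _⟩)
    have e := congrArg Subtype.val (congrFun hx 0)
    rw [Pi.mulSingle_eq_same] at e
    refine za_ne_one (e.symm.trans ?_)
    exact commutatorElement_eq_one_iff_commute.2
      (congrArg Subtype.val (hh x ⟨qq 0, qq_mem_Q (by norm_num)⟩).eq)

theorem norm_Q [Finite J4] {r : ℕ} (hr : r < 5) {g : J4} (hg : g = el ((iG ++ [iW]).getD r 0)) :
    g ∈ Subgroup.normalizer (Qs : Set J4) := by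
  subst hg
  set g := el ((iG ++ [iW]).getD r 0) with hgdef
  have hgb : (iG ++ [iW]).getD r 0 < 26 := (by decide +kernel : ∀ r < 5, (iG ++ [iW]).getD r 0 < 26) r hr
  have hgen : ∃ i < 18, gen i = g :=
    (by decide +kernel : ∀ r < 5, ∃ i < 18, gen18.getD i 0 = (iG ++ [iW]).getD r 0) r hr |>.imp
      fun i hi => ⟨hi.1, by rw [gen, hi.2]⟩
  have hle : Qs.map (MulAut.conj g⁻¹).toMonoidHom ≤ Qs := by
    rw [Qs, MonoidHom.map_closure, Subgroup.closure_le]
    rintro _ ⟨x, (rfl | ⟨i, hi, rfl⟩), rfl⟩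
    · obtain ⟨j, hj, hjg⟩ := hgen
      show g⁻¹ * za * g⁻¹⁻¹ ∈ Qs
      rw [inv_inv, mul_assoc, (hjg ▸ za_comm hρ hj : Commute za g).eq, inv_mul_cancel_left]
      exact za_mem_Q
    · obtain ⟨hall, heq⟩ := norms r hr i hi
      simp only [List.all_eq_true, List.contains_iff_mem] at hall
      have hb := idx_bounds.2.2.1 i hi
      have hmem : ∀ k ∈ (normQ.getD r []).getD i [], el k ∈ Qs ∧ k < 26 := fun k hk => by
        rcases List.mem_cons.1 (hall k hk) with rfl | h
        · exact ⟨za_mem_Q, idx_bounds.1⟩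
        · obtain ⟨j, hj, rfl⟩ := List.mem_iff_getElem.1 h
          rw [← List.getD_eq_getElem _ 0 hj]
          exact ⟨qq_mem_Q (lengths.2.2.1 ▸ hj), idx_bounds.2.2.1 j (lengths.2.2.1 ▸ hj)⟩
      have := prod_eq hρ heq (by simp [hb, hgb, -List.getD_eq_getElem?_getD]) (fun k hk => by
        rcases List.mem_cons.1 hk with rfl | h
        · exact hgb
        · exact (hmem k h).2)
      simp only [List.map_cons, List.map_nil, List.prod_cons, List.prod_nil, mul_one] at this
      show g⁻¹ * qq i * g⁻¹⁻¹ ∈ Qs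
      rw [inv_inv, mul_assoc, qq, hgdef, this, inv_mul_cancel_left]
      exact list_prod_mem fun x hx => by
        obtain ⟨k, hk, rfl⟩ := List.mem_map.1 hx
        exact (hmem k hk).1
  have heq : Qs.map (MulAut.conj g⁻¹).toMonoidHom = Qs :=
    Subgroup.eq_of_le_of_card_ge hle
      (Subgroup.card_map_of_injective (f := (MulAut.conj g⁻¹).toMonoidHom) (MulAut.conj g⁻¹).injective).ge
  rw [← inv_inv g]
  refine inv_mem (Subgroup.mem_normalizer_iff.2 fun h => ?_)
  have key : ∀ h, g⁻¹ * h * g ∈ Qs ↔ h ∈ Qs := fun h => by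
    conv_lhs => rw [← heq]
    rw [show g⁻¹ * h * g = (MulAut.conj g⁻¹).toMonoidHom h by simp]
    exact Subgroup.mem_map_iff_mem (f := (MulAut.conj g⁻¹).toMonoidHom) (MulAut.conj g⁻¹).injective
  rw [inv_inv]
  exact (key h).symm

theorem om_cube : om ^ 3 = 1 := by
  have := prod_eq hρ omega_cube (by simp [idx_bounds.2.1]) (by simp)
  simpa [om, pow_succ, mul_assoc] using this

omit hρ in
theorem om_ne_one : om ≠ 1 := el_ne_one idx_bounds.2.1 omega_entry

theorem Ss_normalizes [Finite J4] : Ss ≤ Subgroup.normalizer (Qs : Set J4) := by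
  rw [Ss, Subgroup.closure_le]
  rintro _ ⟨i, hi, rfl⟩
  by_cases h : i < 13
  · refine Subgroup.le_normalizer ?_
    rcases i with _ | i
    · rw [gen, gen_all.1]; exact za_mem_Q
    · rw [show i + 1 = 1 + i by omega, ← qq_eq (by omega)]; exact qq_mem_Q (by omega)
  · obtain ⟨r, hr, e⟩ := (by decide +kernel : ∀ i < 18, 13 ≤ i → ∃ r < 5, gen18.getD i 0 = (iG ++ [iW]).getD r 0)
      i hi (by omega)
    exact norm_Q hρ hr (by rw [gen, e])

end

end CfsgLib.Sporadic.J4Cent
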