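import Cfsg.Agent.Lib.SmallGroups.MathieuSimple
import Cfsg.Agent.Lib.Sporadic.J4Cent.QGroup

/-!
# The map from the eighteen generated group onto `M₂₂:2` inside `M₂₄`

An element of the group is paired with a permutation of 24 points through a module of degree ten
and vectors labelling the points.
-/

set_option autoImplicit false
set_option maxRecDepth 100000

namespace CfsgLib.Sporadic.J4Cent

open scoped Pointwise
open BitMatrix OutCert Cfsg Cfsg.Spor CfsgLib.SmallGroups.Golay CfsgLib.SmallGroups.GolayOctads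

attribute [local irreducible] eqK el ρ

/-- Matrices with bit rows. -/
def decR (a b : ℕ) (A : List ℕ) : Matrix (Fin a) (Fin b) (ZMod 2) :=
  fun i j => if (A.getD i 0).testBit j then 1 else 0

/-- A vector from bits. -/
def vecB (b v : ℕ) : Fin b → ZMod 2 := fun j => if v.testBit j then 1 else 0

theorem vec_mul {b c : ℕ} {B : List ℕ} (hB : B.length = b) (v : ℕ) :
    Matrix.vecMul (vecB b v) (decR b c B) = vecB c (apL B v) := by
  funext j
  show ∑ k : Fin b, vecB b v k * decR b c B k j = _
  rw [vecB, testBit_apL, hB, Finset.sum_range]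
  rfl

theorem decR_mul {a b c : ℕ} {A B : List ℕ} (hA : A.length = a) (hB : B.length = b) :
    decR a b A * decR b c B = decR a c (A.map (apL B)) := by
  funext i
  have hi : (i : ℕ) < A.length := hA.symm ▸ i.2
  have e : Matrix.vecMul (vecB b (A.getD i 0)) (decR b c B) = vecB c (apL B (A.getD i 0)) := vec_mul hB _
  funext j
  refine (congrFun e j).trans ?_
  simp [decR, vecB, List.getD_eq_getElem?_getD, hi]

/-- Matrices of degree ten. -/
abbrev M10 : Type := Matrix (Fin 10) (Fin 10) (ZMod 2)

/-- The map to the module. -/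
def Pm : Matrix (Fin 112) (Fin 10) (ZMod 2) := decR 112 10 projP

/-- The label of a point. -/
def lab (p : GolayPt) : Fin 10 → ZMod 2 := vecB 10 (label.getD (idx p) 0)

theorem mat_length {k : ℕ} (hk : k < 26) : (mat k).length = 112 := (ok_iff.1 (mat_ok k hk)).1

theorem left_inverse : decR 10 112 projL * Pm = 1 := by
  rw [Pm, decR_mul left_inv.2.1 left_inv.1, left_inv.2.2]
  exact dec_one

/-- Pairs of a group element and a permutation matching through the module. -/
noncomputable def pairs : Subgroup (J4 × M24) where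
  carrier := {x | ∃ R : M10ˣ, ρ x.1 * Pm = Pm * R.val ∧
    ∀ p, Matrix.vecMul (lab ((x.2 : Equiv.Perm GolayPt) p)) R.val = lab p}
  one_mem' := ⟨1, by simp [ρ_one]⟩
  mul_mem' := by
    rintro ⟨g, σ⟩ ⟨h, τ⟩ ⟨R, hR, hσ⟩ ⟨S, hS, hτ⟩
    refine ⟨R * S, ?_, fun p => ?_⟩
    · show ρ (g * h) * Pm = _
      dsimp only at hR hS
      rw [ρ_mul, Matrix.mul_assoc, hS, ← Matrix.mul_assoc, hR, Matrix.mul_assoc, Units.val_mul]
    · show Matrix.vecMul (lab ((σ : Equiv.Perm GolayPt) ((τ : Equiv.Perm GolayPt) p))) (R.val * S.val) = _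
      rw [← Matrix.vecMul_vecMul, hσ, hτ]
  inv_mem' := by
    rintro ⟨g, σ⟩ ⟨R, hR, hσ⟩
    refine ⟨R⁻¹, ?_, fun p => ?_⟩
    · show ρ g⁻¹ * Pm = Pm * (R⁻¹).val
      dsimp only at hR
      calc ρ g⁻¹ * Pm = ρ g⁻¹ * (Pm * R.val) * (R⁻¹).val := by
            rw [Matrix.mul_assoc, Matrix.mul_assoc, Units.mul_inv, Matrix.mul_one]
        _ = _ := by rw [← hR, ← Matrix.mul_assoc, ← ρ_mul, inv_mul_cancel, ρ_one, Matrix.one_mul]
    · show Matrix.vecMul (lab ((σ : Equiv.Perm GolayPt)⁻¹ p)) (R⁻¹).val = lab p
      have := hσ ((σ : Equiv.Perm GolayPt)⁻¹ p)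
      rw [show (σ : Equiv.Perm GolayPt) ((σ : Equiv.Perm GolayPt)⁻¹ p) = p from Equiv.apply_symm_apply _ _] at this
      rw [← this, Matrix.vecMul_vecMul, Units.mul_inv, Matrix.vecMul_one]

theorem lab_inj (p q : GolayPt) (h : lab p = lab q) :
    p = q ∨ (p = none ∨ p = some 0) ∧ (q = none ∨ q = some 0) := by
  have e : label.getD (idx p) 0 = label.getD (idx q) 0 := by
    refine Nat.eq_of_testBit_eq fun j => ?_
    by_cases hj : j < 10
    · have := congrFun h ⟨j, hj⟩
      simp only [lab, vecB] at this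
      cases h1 : (label.getD (idx p) 0).testBit j <;> cases h2 : (label.getD (idx q) 0).testBit j <;>
        simp [h1, h2, -List.getD_eq_getElem?_getD] at this ⊢
    · have hb : ∀ p, (label.getD (idx p) 0).testBit j = false := fun p =>
        Nat.testBit_lt_two_pow (((labels_inj _ (idx_lt p)).1).trans_le (Nat.pow_le_pow_right (by norm_num) (by omega)))
      rw [hb, hb]
  rcases (labels_inj _ (idx_lt p)).2.2 _ (idx_lt q) e with h' | h'
  · exact Or.inl (idx_injective h')
  · have two : ∀ p, label.getD (idx p) 0 = 0 → p = none ∨ p = some 0 := fun p hp =>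
      ((labels_inj _ (idx_lt p)).2.1 hp).elim
        (fun h0 => Or.inr (idx_injective (h0.trans (by decide +kernel))))
        fun h0 => Or.inl (idx_injective (h0.trans (by decide +kernel)))
    exact Or.inr ⟨two p h', two q (e ▸ h')⟩

theorem lab_zero_iff (p : GolayPt) : lab p = 0 ↔ p = none ∨ p = some 0 := by
  have h0 : lab none = 0 ∧ lab (some 0) = 0 := by
    constructor <;> funext j
    · simp [lab, vecB, show idx none = 23 from rfl, labels_zero.2, -List.getD_eq_getElem?_getD]
    · simp [lab, vecB, show idx (some 0) = 0 from rfl, labels_zero.1, -List.getD_eq_getElem?_getD]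
  refine ⟨fun h => ?_, ?_⟩
  · rcases lab_inj p none (h.trans h0.1.symm) with e | e
    exacts [Or.inl e, e.1]
  · rintro (rfl | rfl)
    exacts [h0.1, h0.2]

/-- The transposition of the two special points. -/
def sw : Equiv.Perm GolayPt := Equiv.swap none (some 0)

theorem swap_not_mem : sw ∉ M24 := by
  intro h
  obtain ⟨o, ho, h1, h2⟩ := (by decide +kernel : ∃ o ∈ cwOfWeight 8, o.testBit 23 = true ∧ o.testBit 0 = false)
  have hS : toSet o ∈ octads := mem_octads.mpr ⟨o, ho, rfl⟩
  have hn : (none : GolayPt) ∈ toSet o := by simp [toSet, show idx none = 23 from rfl, h1]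
  have h0 : (some 0 : GolayPt) ∉ toSet o := by simp [toSet, show idx (some 0) = 0 from rfl, h2]
  have himg := CfsgLib.SmallGroups.M24Group.smul_mem_weight h hS
  have hsub : (toSet o).erase none ⊆ sw • toSet o ∩ toSet o := fun x hx => by
    rw [Finset.mem_erase] at hx
    refine Finset.mem_inter.2 ⟨?_, hx.2⟩
    have hx0 : x ≠ some 0 := fun e => h0 (e ▸ hx.2)
    have := Finset.smul_mem_smul_finset (a := sw) hx.2
    rwa [Equiv.Perm.smul_def, sw, Equiv.swap_apply_of_ne_of_ne hx.1 hx0] at this
  have hc := Finset.card_le_card hsub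
  rw [Finset.card_erase_of_mem hn, hS.2] at hc
  have e := octad_eq_of_inter himg hS (le_trans (by norm_num) hc)
  have := Finset.smul_mem_smul_finset (a := sw) hn
  rw [e, Equiv.Perm.smul_def, sw, Equiv.swap_apply_left] at this
  exact h0 this

/-- The group element determines the permutation. -/
theorem pairs_unique {g : J4} {σ τ : M24} (h1 : (g, σ) ∈ pairs) (h2 : (g, τ) ∈ pairs) : σ = τ := by
  have h : ((1 : J4), σ⁻¹ * τ) ∈ pairs := by
    simpa using pairs.mul_mem (pairs.inv_mem h1) h2
  set π := σ⁻¹ * τ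
  obtain ⟨R, hR, hπ⟩ := h
  have hR1 : R.val = 1 := by
    have e : Pm = Pm * R.val := by simpa [ρ_one] using hR
    calc R.val = decR 10 112 projL * Pm * R.val := by rw [left_inverse, Matrix.one_mul]
      _ = 1 := by rw [Matrix.mul_assoc, ← e, left_inverse]
  have hfix : ∀ p, p ≠ none → p ≠ some 0 → (π : Equiv.Perm GolayPt) p = p := fun p hp hp0 => by
    have := hπ p
    rw [hR1, Matrix.vecMul_one] at this
    rcases lab_inj _ _ this with e | ⟨-, e⟩
    · exact e
    · exact absurd e (by tauto)
  have hmove : ∀ {q : GolayPt}, (q = none ∨ q = some 0) →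
      (π : Equiv.Perm GolayPt) q = none ∨ (π : Equiv.Perm GolayPt) q = some 0 := fun {q} hq => by
    by_contra hh
    push Not at hh
    rcases hq with rfl | rfl
    · exact hh.1 ((π : Equiv.Perm GolayPt).injective (hfix _ hh.1 hh.2))
    · exact hh.2 ((π : Equiv.Perm GolayPt).injective (hfix _ hh.1 hh.2))
  have hπ1 : (π : Equiv.Perm GolayPt) none = none := by
    refine (hmove (Or.inl rfl)).resolve_right fun hn => swap_not_mem ?_
    have h0 : (π : Equiv.Perm GolayPt) (some 0) = none := (hmove (Or.inr rfl)).resolve_right fun h0 =>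
      Option.some_ne_none _ ((π : Equiv.Perm GolayPt).injective (h0.trans hn.symm))
    have e : (π : Equiv.Perm GolayPt) = sw := Equiv.ext fun p => by
      show _ = Equiv.swap none (some 0) p
      by_cases hp : p = none
      · subst hp; rw [Equiv.swap_apply_left, hn]
      by_cases hp0 : p = some 0
      · subst hp0; rw [Equiv.swap_apply_right, h0]
      rw [hfix p hp hp0, Equiv.swap_apply_of_ne_of_ne hp hp0]
    exact e ▸ π.2
  have hπ0 : (π : Equiv.Perm GolayPt) (some 0) = some 0 := (hmove (Or.inr rfl)).resolve_left fun h0 =>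
    Option.some_ne_none _ ((π : Equiv.Perm GolayPt).injective (h0.trans hπ1.symm))
  have : π = 1 := Subtype.ext (Equiv.ext fun p => by
    by_cases hp : p = none
    · subst hp; exact hπ1
    by_cases hp0 : p = some 0
    · subst hp0; exact hπ0
    exact hfix p hp hp0)
  exact (inv_mul_eq_one.1 this)

/-- The permutation with the given number. -/
def permPt (i : ℕ) (hi : i < 18) : Equiv.Perm GolayPt where
  toFun p := pt (permOf _ _ (perms_valid i hi) ⟨idx p, idx_lt p⟩)
  invFun p := pt ((permOf _ _ (perms_valid i hi)).symm ⟨idx p, idx_lt p⟩)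
  left_inv p := by simp [idx_pt, pt_idx]
  right_inv p := by simp [idx_pt, pt_idx]

theorem idx_permPt {i : ℕ} (hi : i < 18) (p : GolayPt) :
    idx (permPt i hi p) = lk 5 (permG.getD i (0, 0)).1 (idx p) :=
  idx_pt (permOf _ _ (perms_valid i hi) ⟨idx p, idx_lt p⟩).2

theorem permPt_mem {i : ℕ} (hi : i < 18) : permPt i hi ∈ M24 :=
  CfsgLib.SmallGroups.M24Group.mem_M24_of_basis (f := fun p => pt (lk 5 (permG.getD i (0, 0)).1 (idx p)))
    (fun _ => rfl) fun k hk => perms_code i hi k hk

/-- The permutations of the generators, in `M₂₄`. -/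
def sig (i : ℕ) (hi : i < 18) : M24 := ⟨permPt i hi, permPt_mem hi⟩

theorem gen_pair {i : ℕ} (hi : i < 18) : (gen i, sig i hi) ∈ pairs := by
  obtain ⟨hl, hli, h1, h2⟩ := mod_inv i hi
  refine ⟨⟨decR 10 10 (modR.getD i []), decR 10 10 (modRi.getD i []), ?_, ?_⟩, ?_, fun p => ?_⟩
  · rw [decR_mul hl hli, h1]; exact dec_one
  · rw [decR_mul hli hl, h2]; exact dec_one
  · show ρ (gen i) * Pm = Pm * decR 10 10 _
    have hb := gens_lt i hi
    rw [gen, ρ_el hb, show dec 112 (mat (gen18.getD i 0)) = decR 112 112 (mat (gen18.getD i 0)) from rfl, Pm,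
      decR_mul (mat_length hb) left_inv.1, decR_mul left_inv.1 hl]
    congr 1
    simpa [funext (apF_eq _)] using intertwine i hi
  · show Matrix.vecMul (lab (permPt i hi p)) (decR 10 10 _) = lab p
    rw [lab, lab, idx_permPt hi, vec_mul hl, labels_mod i hi _ (idx_lt p)]

theorem exists_pair (g : Ss) : ∃ σ, ((g : J4), σ) ∈ pairs := by
  have h : Ss ≤ pairs.map (MonoidHom.fst J4 M24) := by
    rw [Ss, Subgroup.closure_le]
    rintro _ ⟨i, hi, rfl⟩
    exact ⟨(gen i, sig i hi), gen_pair hi, rfl⟩
  obtain ⟨⟨x, σ⟩, hx, rfl : x = (g : J4)⟩ := h g.2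
  exact ⟨σ, hx⟩

theorem pairs_mul {g h : J4} {σ τ : M24} (h1 : (g, σ) ∈ pairs) (h2 : (h, τ) ∈ pairs) :
    (g * h, σ * τ) ∈ pairs := by
  simpa only [Prod.mk_mul_mk] using pairs.mul_mem h1 h2

/-- The map onto permutations. -/
noncomputable def phi : Ss →* M24 :=
  MonoidHom.mk' (fun g => (exists_pair g).choose) fun g h =>
    pairs_unique (g := (g : J4) * h) (by simpa only [Subgroup.coe_mul] using (exists_pair (g * h)).choose_spec)
      (pairs_mul (exists_pair g).choose_spec (exists_pair h).choose_spec)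

theorem phi_eq {g : Ss} {σ : M24} (h : ((g : J4), σ) ∈ pairs) : phi g = σ :=
  pairs_unique (exists_pair g).choose_spec h

theorem perms_id : ∀ i < 14, ∀ j < 24, lk 5 (permG.getD i (0, 0)).1 j = j := by decide +kernel

theorem phi_gen_low {i : ℕ} (hi : i < 14) : phi ⟨gen i, gen_mem (by omega)⟩ = 1 := by
  refine (phi_eq (g := ⟨gen i, gen_mem (by omega)⟩) (gen_pair (by omega : i < 18))).trans
    (Subtype.ext (Equiv.ext fun p => idx_injective ?_))
  show idx (permPt i (by omega) p) = idx p
  rw [idx_permPt, perms_id i hi _ (idx_lt p)]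

/-- Points as numbers. -/
def ptEquiv : GolayPt ≃ Fin 24 where
  toFun p := ⟨idx p, idx_lt p⟩
  invFun j := pt j
  left_inv p := pt_idx p
  right_inv j := Fin.ext (idx_pt j.2)

theorem range_ge : 887040 ≤ Nat.card phi.range := by
  let f : M24 →* Equiv.Perm (Fin 24) := ptEquiv.permCongrHom.toMonoidHom.comp M24.subtype
  have hf : Function.Injective f := ptEquiv.permCongrHom.injective.comp M24.subtype_injective
  rw [← Subgroup.card_map_of_injective (f := f) hf, ← levels_ok.2]
  refine card_ge_levels chainLv _ levels_ok.1 fun L hL g hg => ?_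
  simp only [chainLv, List.mem_map] at hL
  obtain ⟨e, he, rfl⟩ := hL
  obtain ⟨k, hk, rfl⟩ := List.mem_map.1 hg
  have hlt := List.all_eq_true.1 (List.all_eq_true.1 chain_lt e he) k hk
  refine slp_sound (by norm_num) slp_ok (fun i hi => ?_) k (by
    simpa [permGens, Nat.blt_eq] using hlt)
  have hi4 : i < 4 := by simpa [permGens] using hi
  refine ⟨f (sig (14 + i) (by omega)), ⟨_, ⟨⟨gen (14 + i), gen_mem (by omega)⟩, phi_eq (gen_pair _)⟩, rfl⟩, ?_⟩
  intro j
  rw [show permGens.getD i 0 = (permG.getD (14 + i) (0, 0)).1 by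
    simp [permGens, List.getD_eq_getElem?_getD, hi4]]
  show lk 5 _ _ = idx (permPt (14 + i) (by omega) (pt j))
  rw [idx_permPt, idx_pt j.2]

/-- The pointwise stabiliser of the two special points. -/
def T22 : Subgroup M24 :=
  MulAction.stabilizer M24 (none : GolayPt) ⊓ MulAction.stabilizer M24 (some 0 : GolayPt)

theorem phi_pair (g : Ss) {q : GolayPt} (hq : q = none ∨ q = some 0) :
    ((phi g : M24) : Equiv.Perm GolayPt) q = none ∨ ((phi g : M24) : Equiv.Perm GolayPt) q = some 0 := by
  obtain ⟨R, -, hσ⟩ := (exists_pair g).choose_spec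
  have h := hσ q
  rw [(lab_zero_iff q).2 hq] at h
  rw [← lab_zero_iff]
  have := congrArg (fun v => Matrix.vecMul v (R⁻¹).val) h
  rw [Matrix.vecMul_vecMul, Units.mul_inv, Matrix.vecMul_one, Matrix.zero_vecMul] at this
  exact this

/-- The range contains the stabiliser of the two points with index two. -/
theorem range_spec : Nat.card phi.range = 887040 ∧ T22 ≤ phi.range ∧ (T22.comap phi).index = 2 := by
  classical
  have hT : Nat.card T22 = 443520 := CfsgLib.SmallGroups.MathieuSimple.card_stab_two (by simp)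
  have hidx : (T22.comap phi).index ≤ 2 := by
    rw [Subgroup.index_eq_card]
    refine (Nat.card_le_card_of_injective (β := Bool) (Quotient.lift
      (fun g : Ss => decide (((phi g : M24) : Equiv.Perm GolayPt) none = none)) ?_) ?_).trans (by simp)
    · intro g h hgh
      have hm : phi (g⁻¹ * h) ∈ T22 := QuotientGroup.leftRel_apply.1 hgh
      have e : ((phi h : M24) : Equiv.Perm GolayPt) none = ((phi g : M24) : Equiv.Perm GolayPt) none := by
        rw [show phi h = phi g * phi (g⁻¹ * h) by rw [← map_mul, mul_inv_cancel_left], Subgroup.coe_mul,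
          Equiv.Perm.mul_apply]
        congr 1
        exact hm.1
      simp only [e]
    · intro a b
      induction a using Quotient.inductionOn with | _ g => ?_
      induction b using Quotient.inductionOn with | _ h => ?_
      intro hgh
      simp only [Quotient.lift_mk, decide_eq_decide] at hgh
      refine QuotientGroup.eq.2 ?_
      show phi (g⁻¹ * h) ∈ T22
      have e1 : ((phi h : M24) : Equiv.Perm GolayPt) none = ((phi g : M24) : Equiv.Perm GolayPt) none := by
        rcases phi_pair g (Or.inl rfl) with a | a <;> rcases phi_pair h (Or.inl rfl) with b | b <;>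
          simp_all
      have h1 : ((phi (g⁻¹ * h) : M24) : Equiv.Perm GolayPt) none = none := by
        rw [map_mul, map_inv, Subgroup.coe_mul, Equiv.Perm.mul_apply, Subgroup.coe_inv, e1]
        exact Equiv.symm_apply_apply _ _
      refine ⟨h1, ?_⟩
      refine (phi_pair (g⁻¹ * h) (Or.inr rfl)).resolve_left fun h0 => ?_
      exact Option.some_ne_none _ (((phi (g⁻¹ * h) : M24) : Equiv.Perm GolayPt).injective (h0.trans h1.symm))
  have hr : (T22.comap phi).index = T22.relIndex phi.range := Subgroup.index_comap T22 phi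
  have hmul : Nat.card ↥(T22 ⊓ phi.range) * T22.relIndex phi.range = Nat.card phi.range := by
    rw [← Subgroup.inf_relIndex_right, mul_comm, Subgroup.relIndex,
      ← Nat.card_congr (Subgroup.subgroupOfEquivOfLe (inf_le_right : T22 ⊓ phi.range ≤ _)).toEquiv]
    exact Subgroup.index_mul_card _
  have hle : Nat.card ↥(T22 ⊓ phi.range) ≤ 443520 := hT ▸ Subgroup.card_le_of_le inf_le_left
  have hge := range_ge
  rw [← hr] at hmul
  have hb : Nat.card phi.range ≤ 443520 * 2 := hmul ▸ Nat.mul_le_mul hle hidx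
  have hcard : Nat.card phi.range = 887040 := by omega
  have hi2 : (T22.comap phi).index = 2 := by
    by_contra h
    have h' := Nat.mul_le_mul hle (show (T22.comap phi).index ≤ 1 by omega)
    omega
  refine ⟨hcard, ?_, hi2⟩
  rw [hi2, hcard] at hmul
  have : T22 ⊓ phi.range = T22 := Subgroup.eq_of_le_of_card_ge inf_le_left (by omega)
  exact this ▸ inf_le_right

end CfsgLib.Sporadic.J4Cent
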