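import Cfsg.Agent.Lib.ThreeTransp.Simplicity
import Cfsg.Agent.Lib.Sporadic.J4Cent.Hom

/-!
# The centraliser of an involution from an upper bound on its order

If the representation of degree 112 is faithful and the centraliser has order at most
`2 ^ 13 * 3 * 887040`, it has the structure `2^(1+12).3M₂₂:2`.
-/

set_option autoImplicit false
set_option maxRecDepth 100000

namespace CfsgLib.Sporadic.J4Cent

open Cfsg Cfsg.Spor

attribute [local irreducible] eqK el ρ phi Qs Ss za

theorem mem_ker_of_gen {g : Ss} {i : ℕ} (hi : i < 14) (h : (g : J4) = gen i) : g ∈ phi.ker := by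
  rw [MonoidHom.mem_ker, show g = ⟨gen i, gen_mem (by omega)⟩ from Subtype.ext h]
  exact phi_gen_low hi

variable [Finite J4]

theorem ker_dvd (hρ : Function.Injective J4Rep.rep) : 24576 ∣ Nat.card phi.ker := by
  have hQ : Qs.subgroupOf Ss ≤ phi.ker := by
    have : Qs ≤ phi.ker.map Ss.subtype := by
      unfold Qs
      rw [Subgroup.closure_le]
      rintro _ (rfl | ⟨i, hi, rfl⟩)
      · exact ⟨⟨za, Qs_le_Ss za_mem_Q⟩, mem_ker_of_gen (i := 0) (by norm_num) (by
          show za = gen 0; unfold za; rw [gen, gen_all.1]), rfl⟩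
      · exact ⟨⟨qq i, Qs_le_Ss (qq_mem_Q hi)⟩, mem_ker_of_gen (i := 1 + i) (by omega) (qq_eq hi), rfl⟩
    intro g hg
    obtain ⟨k, hk, e⟩ := this hg
    exact (Subtype.ext e : k = g) ▸ hk
  have h1 : 2 ^ 13 ∣ Nat.card phi.ker := by
    have := Subgroup.card_dvd_of_le hQ
    rwa [Nat.card_congr (Subgroup.subgroupOfEquivOfLe Qs_le_Ss).toEquiv, (card_Q hρ).1] at this
  have h3 : 3 ∣ Nat.card phi.ker := by
    let w : phi.ker := ⟨⟨gen 13, gen_mem (by norm_num)⟩, mem_ker_of_gen (i := 13) (by norm_num) rfl⟩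
    have hw : orderOf w = 3 := by
      have e : ((w : Ss) : J4) = om := by show gen 13 = om; rw [gen, gen_all.2.1, om]
      refine orderOf_eq_prime (Subtype.ext (Subtype.ext ?_)) fun h => ?_
      · rw [Subgroup.coe_pow, Subgroup.coe_pow, e, om_cube hρ]; rfl
      · exact om_ne_one (e ▸ congrArg (fun t : phi.ker => ((t : Ss) : J4)) h)
    exact hw ▸ orderOf_dvd_natCard w
  exact Nat.Coprime.mul_dvd_of_dvd_of_dvd (by norm_num : Nat.Coprime (2 ^ 13) 3) h1 h3

theorem centralizer_eq (hρ : Function.Injective J4Rep.rep)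
    (hC : Nat.card (Subgroup.centralizer {za}) ≤ 21799895040) :
    Ss = Subgroup.centralizer {za} ∧ Nat.card phi.ker = 24576 := by
  have hd := Nat.le_of_dvd Nat.card_pos (ker_dvd hρ)
  have hmul := Subgroup.card_mul_index phi.ker
  rw [Subgroup.index_ker, range_spec.1] at hmul
  have hle := Subgroup.card_le_of_le (Ss_le_centralizer hρ)
  generalize hk : Nat.card phi.ker = k at hd hmul
  generalize hc : Nat.card (Subgroup.centralizer {za}) = c at hC hle
  generalize hs : Nat.card Ss = s at hle hmul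
  have hk2 : k = 24576 := by omega
  refine ⟨Subgroup.eq_of_le_of_card_ge (Ss_le_centralizer hρ) ?_, hk2⟩
  rw [hc, hs, ← hmul, hk2]
  norm_num
  exact hC

/-- The structure of the centraliser. -/
theorem structure_of_bound (hρ : Function.Injective J4Rep.rep)
    (hC : Nat.card (Subgroup.centralizer {za}) ≤ 21799895040) :
    ∃ z : J4, orderOf z = 2 ∧ ∃ (Q N M : Subgroup (Subgroup.centralizer ({z} : Set J4))), Q.Normal ∧ N.Normal ∧
      Q ≤ N ∧ N ≤ M ∧ Nat.card Q = 2 ^ 13 ∧ Cfsg.IsExtraspecial 2 Q ∧ Nat.card N = 3 * 2 ^ 13 ∧ M.index = 2 ∧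
      ∃ (_ : (N.subgroupOf M).Normal), Cfsg.IsM22 (M ⧸ N.subgroupOf M) := by
  obtain ⟨hS, hker⟩ := centralizer_eq hρ hC
  refine ⟨za, orderOf_za hρ, ?_⟩
  rw [← hS]
  refine ⟨Qs.subgroupOf Ss, phi.ker, T22.comap phi,
    Subgroup.normal_subgroupOf_of_le_normalizer (Ss_normalizes hρ), MonoidHom.normal_ker _, ?_, ?_, ?_, ?_,
    hker.trans (by norm_num), range_spec.2.2, ?_⟩
  · intro g hg
    have h : Qs ≤ phi.ker.map Ss.subtype := by
      unfold Qs
      rw [Subgroup.closure_le]
      rintro _ (rfl | ⟨i, hi, rfl⟩)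
      · exact ⟨⟨za, Qs_le_Ss za_mem_Q⟩, mem_ker_of_gen (i := 0) (by norm_num) (by
          show za = gen 0; unfold za; rw [gen, gen_all.1]), rfl⟩
      · exact ⟨⟨qq i, Qs_le_Ss (qq_mem_Q hi)⟩, mem_ker_of_gen (i := 1 + i) (by omega) (qq_eq hi), rfl⟩
    obtain ⟨k, hk, e⟩ := h hg
    exact (Subtype.ext e : k = g) ▸ hk
  · exact fun g hg => by
      rw [Subgroup.mem_comap, MonoidHom.mem_ker.1 hg]
      exact one_mem _
  · rw [Nat.card_congr (Subgroup.subgroupOfEquivOfLe Qs_le_Ss).toEquiv, (card_Q hρ).1]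
  · exact CfsgLib.ThreeTransp.Simplicity.isExtraspecial_of_equiv
      (Subgroup.subgroupOfEquivOfLe Qs_le_Ss).symm (Q_extraspecial hρ)
  · haveI hn : (phi.ker.subgroupOf (T22.comap phi)).Normal := Subgroup.normal_subgroupOf
    refine ⟨hn, ?_⟩
    let ψ : T22.comap phi →* T22 :=
      (phi.comp (T22.comap phi).subtype).codRestrict T22 fun g => g.2
    have hsurj : Function.Surjective ψ := fun t => by
      obtain ⟨g, hg⟩ := range_spec.2.1 t.2
      exact ⟨⟨g, by rw [Subgroup.mem_comap, hg]; exact t.2⟩, Subtype.ext hg⟩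
    have hk : ψ.ker = phi.ker.subgroupOf (T22.comap phi) := by
      ext g
      rw [MonoidHom.mem_ker, Subgroup.mem_subgroupOf, MonoidHom.mem_ker]
      exact ⟨fun h => congrArg Subtype.val h, fun h => Subtype.ext h⟩
    let e := (QuotientGroup.quotientMulEquivOfEq hk.symm).trans
      (QuotientGroup.quotientKerEquivOfSurjective ψ hsurj)
    have : IsSimpleGroup T22 := CfsgLib.SmallGroups.MathieuSimple.isSimple_M22 (by simp)
    refine ⟨e.isSimpleGroup, ?_⟩
    rw [Nat.card_congr e.toEquiv]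
    exact CfsgLib.SmallGroups.MathieuSimple.card_stab_two (by simp)

end CfsgLib.Sporadic.J4Cent
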