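import Cfsg.Agent.Lib.Sporadic.J4Cent.Classes
import Cfsg.Agent.Lib.Sporadic.J4Cent.Main

/-!
# The bound on the order of the centraliser of an involution

A conjugate of the involution in `M₂₄` fixes few cosets of the subgroup `2¹¹:M₂₄`, and this subgroup
contains many conjugates.
-/

set_option autoImplicit false
set_option maxRecDepth 100000

namespace CfsgLib.Sporadic.J4Cent.Upper

open BitMatrix OutCert Cfsg Cfsg.Spor CfsgLib.SmallGroups.Golay CosetCert CosetCert.J4M24 MathieuMultiplier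

attribute [local irreducible] eqK el ρ valK za

/-- The subgroup generated by `x`, `y` and the involution. -/
noncomputable def Hj : Subgroup J4 := Subgroup.closure {el 0, el 1, el iA}

/-- The fixed vector as a row. -/
def V0 : Matrix (Fin 1) (Fin 112) (ZMod 2) := decR 1 112 [vec0]

/-- The rows of the layer. -/
def Bm : Matrix (Fin 11) (Fin 112) (ZMod 2) := decR 11 112 basB

/-- The coordinates. -/
def PB : Matrix (Fin 112) (Fin 11) (ZMod 2) := decR 112 11 projB

/-- The element respects the layer. -/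
def Keeps (g : J4) : Prop := V0 * ρ g = V0 ∧ ∃ (R : Matrix (Fin 11) (Fin 11) (ZMod 2))
    (c : Matrix (Fin 11) (Fin 1) (ZMod 2)), Bm * ρ g = R * Bm + c * V0

/-- The matrix on the layer. -/
noncomputable def lay (g : J4) : Matrix (Fin 11) (Fin 11) (ZMod 2) := Bm * ρ g * PB

theorem Bm_PB : Bm * PB = 1 := by
  obtain ⟨h1, h2, -, -, h5, -⟩ := layer_data
  rw [show (List.map (apF projB) basB) = List.map (apL projB) basB from
    List.map_congr_left fun v _ => apF_eq _ v] at h5
  rw [Bm, PB, decR_mul h1 h2, h5]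
  exact dec_one

theorem V0_PB : V0 * PB = 0 := by
  obtain ⟨-, h2, -, -, -, h6, -⟩ := layer_data
  rw [apF_eq] at h6
  rw [V0, PB, decR_mul (by rfl) h2, List.map_singleton, h6]
  ext i j
  simp [decR, Fin.fin_one_eq_zero i]

theorem lay_of {g : J4} {R : Matrix (Fin 11) (Fin 11) (ZMod 2)} {c : Matrix (Fin 11) (Fin 1) (ZMod 2)} (h : Bm * ρ g = R * Bm + c * V0) : lay g = R := by
  rw [lay, h, Matrix.add_mul, Matrix.mul_assoc, Bm_PB, Matrix.mul_one, Matrix.mul_assoc, V0_PB, Matrix.mul_zero,
    add_zero]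

theorem Keeps.mul {g h : J4} (hg : Keeps g) (hh : Keeps h) :
    Keeps (g * h) ∧ lay (g * h) = lay g * lay h := by
  obtain ⟨h0, R, c, hR⟩ := hg
  obtain ⟨k0, S, d, hS⟩ := hh
  have e : Bm * ρ (g * h) = R * S * Bm + (R * d + c) * V0 := by
    rw [ρ_mul, ← Matrix.mul_assoc, hR, Matrix.add_mul, Matrix.mul_assoc R, hS, Matrix.mul_assoc c, k0,
      Matrix.mul_add, Matrix.add_mul, Matrix.mul_assoc, Matrix.mul_assoc, add_assoc]
  refine ⟨⟨by rw [ρ_mul, ← Matrix.mul_assoc, h0, k0], _, _, e⟩, ?_⟩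
  rw [lay_of e, lay_of hR, lay_of hS]

theorem keeps_one : Keeps 1 ∧ lay 1 = 1 := by
  have e : Bm * ρ (1 : J4) = (1 : Matrix (Fin 11) (Fin 11) (ZMod 2)) * Bm + (0 : Matrix (Fin 11) (Fin 1) (ZMod 2)) * V0 := by
    rw [ρ_one, Matrix.mul_one, Matrix.one_mul, Matrix.zero_mul, add_zero]
  exact ⟨⟨by rw [ρ_one, Matrix.mul_one], _, _, e⟩, lay_of e⟩

theorem genPos_lt : ∀ k < 4, genPos.getD k 0 < 26 := by decide +kernel

theorem keeps_gen {k : ℕ} (hk : k < 4) :
    Keeps (el (genPos.getD k 0)) ∧ lay (el (genPos.getD k 0)) = decR 11 11 (modLayer.getD k ([], [])).1 := by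
  obtain ⟨h1, -, -, -, -, -, h7, -⟩ := layer_data
  have hb := genPos_lt k hk
  have hρ : ρ (el (genPos.getD k 0)) = decR 112 112 (mat (genPos.getD k 0)) := ρ_el hb
  have e : Bm * ρ (el (genPos.getD k 0)) = decR 11 11 (modLayer.getD k ([], [])).1 * Bm +
      (Matrix.of fun (i : Fin 11) (_ : Fin 1) => (if (modLayer.getD k ([], [])).2.getD i 0 = 1 then 1 else 0 : ZMod 2)) * V0 := by
    rw [hρ, Bm, decR_mul h1 (mat_length hb), decR_mul (h7 k hk) h1]
    ext i j
    have hi : (i : ℕ) < 11 := i.2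
    rw [Matrix.add_apply, Matrix.mul_apply, Fin.sum_univ_one, Matrix.of_apply]
    simp only [decR, V0]
    rw [List.getD_eq_getElem _ _ (show (i : ℕ) < (basB.map _).length by simp [h1, hi]), List.getElem_map,
      List.getD_eq_getElem ((modLayer.getD k ([], [])).1.map _) _ (by rw [List.length_map, h7 k hk]; exact hi),
      List.getElem_map]
    have hrow := layer_rows k hk i hi
    rw [apF_eq, apF_eq, List.getD_eq_getElem basB _ (h1.symm ▸ hi),
      List.getD_eq_getElem (modLayer.getD k ([], [])).1 _ ((h7 k hk).symm ▸ hi)] at hrow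
    rw [hrow, Nat.testBit_xor]
    rcases Classical.em ((modLayer.getD k ([], [])).2.getD i 0 = 1) with hc | hc
    · simp only [if_pos hc]
      cases (apL basB _).testBit (j : ℕ) <;> cases hv : vec0.testBit (j : ℕ) <;> simp [hv] <;> decide
    · simp only [if_neg hc]
      cases (apL basB _).testBit (j : ℕ) <;> simp
  refine ⟨⟨?_, _, _, e⟩, lay_of e⟩
  rw [hρ, V0, decR_mul (by rfl) (mat_length hb), List.map_singleton, ← apF_eq, layer_fix k hk]

variable [Finite J4]

theorem keeps_mem {g : J4} (hg : g ∈ Hj) : Keeps g := by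
  rw [Hj, ← Subgroup.mem_toSubmonoid, Subgroup.closure_toSubmonoid_of_finite] at hg
  induction hg using Submonoid.closure_induction with
  | mem x hx =>
    rcases hx with rfl | rfl | rfl
    exacts [(keeps_gen (k := 0) (by norm_num)).1, (keeps_gen (k := 1) (by norm_num)).1,
      (keeps_gen (k := 3) (by norm_num)).1]
  | one => exact keeps_one.1
  | mul x y _ _ hx hy => exact (hx.mul hy).1

theorem lay_mul {g h : J4} (hg : g ∈ Hj) (hh : h ∈ Hj) : lay (g * h) = lay g * lay h :=
  ((keeps_mem hg).mul (keeps_mem hh)).2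

omit [Finite J4] in
theorem el_mem {a : ℕ} (ha : a < 5) (h3 : a ≠ 3) : el a ∈ Hj := by
  have h : el a ∈ Hj ∨ a = 2 := by
    rcases (show a = 0 ∨ a = 1 ∨ a = 2 ∨ a = iA by simp [iA]; omega) with rfl | rfl | rfl | rfl
    exacts [Or.inl (Subgroup.subset_closure (by simp)), Or.inl (Subgroup.subset_closure (by simp)),
      Or.inr rfl, Or.inl (Subgroup.subset_closure (by simp))]
  rcases h with h | rfl
  · exact h
  · rw [el_letter (by norm_num)]
    have h1 : val (fun k => (sBoth k).1) (code 1) ∈ Hj := by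
      rw [← el_letter (by norm_num)]; exact Subgroup.subset_closure (by simp)
    simpa [val, code] using inv_mem h1

omit [Finite J4] in
theorem prod_mem_Hj {L : List ℕ} (hL : ∀ a ∈ L, a < 5 ∧ a ≠ 3) : (L.map el).prod ∈ Hj :=
  list_prod_mem fun g hg => by
    obtain ⟨a, ha, rfl⟩ := List.mem_map.1 hg
    exact el_mem (hL a ha).1 (hL a ha).2

theorem lay_filter {L : List ℕ} (hL : ∀ a ∈ L, a < 5 ∧ a ≠ 3) :
    lay (L.map el).prod = lay ((L.filter fun a => !Nat.beq a 4).map el).prod := by
  induction L with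
  | nil => rfl
  | cons a L ih =>
    have hL' : ∀ b ∈ L, b < 5 ∧ b ≠ 3 := fun b hb => hL b (List.mem_cons_of_mem _ hb)
    obtain ⟨h5, h3⟩ := hL a List.mem_cons_self
    have hmem := el_mem h5 h3
    rw [List.map_cons, List.prod_cons, lay_mul hmem (prod_mem_Hj hL'), ih hL']
    by_cases h4 : a = 4
    · subst h4
      have h1 : lay (el 4) = 1 := by
        refine ((keeps_gen (k := 3) (by norm_num)).2).trans ?_
        rw [layer_data.2.2.2.2.2.2.2.1]
        exact dec_one
      rw [h1, Matrix.one_mul, List.filter_cons_of_neg (by decide)]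
    · rw [List.filter_cons_of_pos (by rw [Bool.not_eq_true', Bool.eq_false_iff]; exact fun e => h4 (Nat.eq_of_beq_eq_true e)), List.map_cons, List.prod_cons,
        lay_mul hmem (prod_mem_Hj fun b hb => hL' b (List.mem_of_mem_filter hb))]

omit [Finite J4] in
theorem Ψ_mem (σ : M24) : Ψ σ ∈ Hj := by
  have h : Subgroup.comap Ψ Hj = ⊤ := by
    refine eq_top_of_mem ?_ ?_ <;> rw [Subgroup.mem_comap]
    · rw [show px = (sBoth 0).2 from rfl, Ψ_sBoth]
      have := el_mem (a := 0) (by norm_num) (by norm_num)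
      rwa [el_letter (by norm_num)] at this
    · rw [show py = (sBoth 1).2 from rfl, Ψ_sBoth]
      have := el_mem (a := 1) (by norm_num) (by norm_num)
      rwa [el_letter (by norm_num)] at this
  exact (h ▸ Subgroup.mem_top σ : σ ∈ Subgroup.comap Ψ Hj)

/-- The action of `M₂₄` on the layer. -/
noncomputable def layHom : M24 →* Matrix (Fin 11) (Fin 11) (ZMod 2) where
  toFun σ := lay (Ψ σ)
  map_one' := by rw [map_one]; exact keeps_one.2
  map_mul' σ τ := by rw [map_mul, lay_mul (Ψ_mem σ) (Ψ_mem τ)]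

theorem layHom_injective : Function.Injective layHom := by
  have : IsSimpleGroup M24 := CfsgLib.SmallGroups.MathieuSimple.isSimple_M24
  rw [← MonoidHom.ker_eq_bot_iff]
  refine (Subgroup.Normal.eq_bot_or_eq_top (MonoidHom.normal_ker layHom)).resolve_right fun hk => ?_
  have h : (sBoth 0).2 ∈ layHom.ker := by rw [hk]; exact Subgroup.mem_top _
  rw [MonoidHom.mem_ker] at h
  have h' : lay (el 0) = 1 := by
    rw [el_letter (by norm_num)]
    have e : Ψ (sBoth 0).2 = val (fun k => (sBoth k).1) (code 0) := by rw [Ψ_sBoth]; rfl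
    rw [← e]
    exact h
  have h'' : decR 11 11 (modLayer.getD 0 ([], [])).1 = 1 := by
    rw [← (keeps_gen (k := 0) (by norm_num)).2]; exact h'
  obtain ⟨i, j, hne, hij⟩ : ∃ i : Fin 11, ∃ j : Fin 11, i ≠ j ∧
      ((modLayer.getD 0 ([], [])).1.getD i 0).testBit j = true := by decide +kernel
  have e := congrFun (congrFun h'' i) j
  unfold decR at e
  rw [if_pos hij, Matrix.one_apply_ne hne] at e
  exact one_ne_zero e

omit [Finite J4] in
theorem dec_injective {A A' : List ℕ} (hA : ok 112 A = true) (hA' : ok 112 A' = true)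
    (h : dec 112 A = dec 112 A') : A = A' := by
  obtain ⟨l, b⟩ := ok_iff.1 hA
  obtain ⟨l', b'⟩ := ok_iff.1 hA'
  refine List.ext_getElem (l.trans l'.symm) fun i h1 h2 => Nat.eq_of_testBit_eq fun j => ?_
  by_cases hj : j < 112
  · have e := congrFun (congrFun h ⟨i, l ▸ h1⟩) ⟨j, hj⟩
    unfold dec at e
    rw [List.getD_eq_getElem _ _ h1, List.getD_eq_getElem _ _ h2] at e
    revert e
    cases A[i].testBit j <;> cases A'[i].testBit j <;> simp
  · rw [Nat.testBit_lt_two_pow ((b _ (List.getElem_mem h1)).trans_le (Nat.pow_le_pow_right (by norm_num) (by omega))),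
      Nat.testBit_lt_two_pow ((b' _ (List.getElem_mem h2)).trans_le (Nat.pow_le_pow_right (by norm_num) (by omega)))]

omit [Finite J4] in
theorem valK_congr {L L' : List ℕ} (hL : ∀ i ∈ L, i < 26) (hL' : ∀ i ∈ L', i < 26)
    (h : (L.map el).prod = (L'.map el).prod) : valK L = valK L' := by
  have h0 : BitMatrix.Good 112 (pack 112 (BitMatrix.one 112)) 1 :=
    ⟨BitMatrix.one 112, (ok_iff.1 ok_one).1, one_lt, rfl, dec_one⟩
  have hok : ∀ M : List ℕ, (∀ i ∈ M, i < 26) → ∀ B ∈ M.map mat, ok 112 B = true := fun M hM B hB => by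
    obtain ⟨i, hi, rfl⟩ := List.mem_map.1 hB
    exact mat_ok i (hM i hi)
  obtain ⟨A, hAl, hA, hP, hM⟩ := BitMatrix.Good.prodP _ (hok L hL) h0
  obtain ⟨A', hAl', hA', hP', hM'⟩ := BitMatrix.Good.prodP _ (hok L' hL') h0
  rw [one_mul, List.map_map] at hM hM'
  have e := congrArg ρ h
  rw [ρ_prod _ _ fun i hi => ρ_el (hL i hi), ρ_prod _ _ fun i hi => ρ_el (hL' i hi)] at e
  have e' : A = A' := dec_injective (ok_iff.2 ⟨hAl, hA⟩) (ok_iff.2 ⟨hAl', hA'⟩)
    (hM.trans (e.trans hM'.symm))
  unfold valK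
  rw [forced_eq, forced_eq, hP, hP', e']

omit [Finite J4] in
theorem lift_small : ∀ j < 32, (liftW j ++ moveW j ++ moveR j ++ word0).all (fun a => Nat.blt a 5 && !Nat.beq a 3) = true := by
  decide +kernel

/-- The members of the class over the second involution. -/
noncomputable def lift (j : Fin 32) : J4 := ((liftW j).map el).prod

omit [Finite J4] in
theorem small_liftW (j : Fin 32) : ∀ a ∈ liftW j, a < 5 ∧ a ≠ 3 := fun a ha => by
  have h := List.all_eq_true.1 (lift_small j j.2) a (by simp [ha])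
  simp only [Bool.and_eq_true, Nat.blt_eq, Bool.not_eq_true'] at h
  exact ⟨h.1, fun e => by subst e; exact absurd h.2 (by decide)⟩

omit [Finite J4] in
theorem lift_injective : Function.Injective lift := by
  intro i j e
  have h := valK_congr (fun a ha => by have := small_liftW i a ha; omega)
    (fun a ha => by have := small_liftW j a ha; omega) e
  have hn := noDupK_spec lift_distinct
  refine Fin.ext ((List.Nodup.getElem_inj_iff hn (hi := by simp) (hj := by simp)).1 ?_)
  simpa using h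

section
variable (hρ : Function.Injective J4Rep.rep)
include hρ

omit [Finite J4] in
theorem σ_eq : Ψ σ₁ = (word1.map el).prod ∧ Ψ σ₂ = (word2.map el).prod := by
  have h := List.all_eq_true.1 words_small.1
  exact ⟨Ψ_sigW fun a ha => by simpa using h a (List.mem_append_left _ ha),
    Ψ_sigW fun a ha => by simpa using h a (List.mem_append_right _ ha)⟩

omit [Finite J4] in
theorem conj_of_eqK {L G : List ℕ} (hL : ∀ a ∈ L, a < 26) (hG : ∀ a ∈ G, a < 26)
    (h : eqK (L ++ G) (G ++ [iA]) = true) : (L.map el).prod = (G.map el).prod * za * ((G.map el).prod)⁻¹ := by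
  have := prod_eq hρ h (fun a ha => (List.mem_append.1 ha).elim (hL a) (hG a))
    (fun a ha => (List.mem_append.1 ha).elim (hG a) fun h' => by
      rw [List.mem_singleton.1 h']; exact idx_bounds.1)
  rw [List.map_append, List.prod_append, List.map_append, List.prod_append, List.map_singleton,
    List.prod_singleton] at this
  rw [eq_mul_inv_iff_mul_eq, this]
  unfold za
  rfl

omit [Finite J4] in
theorem lift_conj (j : Fin 32) : IsConj za (lift j) := by
  have hs := List.all_eq_true.1 (lift_small j j.2)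
  have hb : ∀ L : List ℕ, (∀ a ∈ L, a ∈ liftW j ++ moveW j ++ moveR j ++ word0) → ∀ a ∈ L, a < 26 := by
    intro L hL a ha
    have := hs a (hL a ha)
    simp only [Bool.and_eq_true, Nat.blt_eq] at this
    omega
  have hG : ∀ a ∈ conj2, a < 26 := fun a ha => by
    have := List.all_eq_true.1 words_small.2 a (by simp [ha])
    simp only [Nat.blt_eq] at this
    omega
  have h0 := conj_of_eqK hρ (hb word0 fun a ha => by simp [ha]) hG conj2_ok
  have hinv := prod_eq hρ (move_inv j j.2) (hb _ fun a ha => by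
    rcases List.mem_append.1 ha with h | h <;> simp [h]) (by simp)
  rw [List.map_append, List.prod_append, List.map_nil, List.prod_nil] at hinv
  refine isConj_iff.2 ⟨((moveW j).map el).prod * (conj2.map el).prod, ?_⟩
  rw [lift, liftW, List.map_append, List.map_append, List.prod_append, List.prod_append, h0, mul_inv_rev,
    inv_eq_of_mul_eq_one_right hinv]
  group

theorem lift_lay (j : Fin 32) : lay (lift j) = layHom σ₂ := by
  rw [lift, lay_filter (small_liftW j)]
  have := prod_eq hρ (lift_proj j j.2) (fun a ha => by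
      have := small_liftW j a (List.mem_of_mem_filter ha); omega)
    (fun a ha => by
      have := List.all_eq_true.1 words_small.1 a (List.mem_append_right _ ha)
      simp only [Nat.blt_eq] at this; omega)
  rw [this, ← (σ_eq hρ).2]
  rfl

/-- Many conjugates of the involution lie in the subgroup. -/
theorem exists_many : ∃ w : {τ : M24 // IsConj σ₂ τ} × Fin 32 → J4,
    Function.Injective w ∧ ∀ p, w p ∈ Hj ∧ IsConj za (w p) := by
  choose g hg using fun τ : {τ : M24 // IsConj σ₂ τ} => isConj_iff.1 τ.2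
  refine ⟨fun p => Ψ (g p.1) * lift p.2 * (Ψ (g p.1))⁻¹, ?_, fun p => ⟨?_, ?_⟩⟩
  · have hlay : ∀ p : {τ : M24 // IsConj σ₂ τ} × Fin 32,
        lay (Ψ (g p.1) * lift p.2 * (Ψ (g p.1))⁻¹) = layHom p.1.1 := fun p => by
      have hl : lift p.2 ∈ Hj := prod_mem_Hj (small_liftW p.2)
      rw [lay_mul (mul_mem (Ψ_mem _) hl) (inv_mem (Ψ_mem _)), lay_mul (Ψ_mem _) hl, lift_lay hρ,
        ← map_inv]
      show layHom (g p.1) * layHom σ₂ * layHom (g p.1)⁻¹ = _
      rw [← map_mul, ← map_mul, hg]
    rintro ⟨τ, i⟩ ⟨τ', j⟩ e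
    have h1 := congrArg lay e
    simp only at h1
    rw [hlay (τ, i), hlay (τ', j)] at h1
    obtain rfl : τ = τ' := Subtype.ext (layHom_injective h1)
    exact Prod.ext rfl (lift_injective (mul_left_cancel (mul_right_cancel e)))
  · exact mul_mem (mul_mem (Ψ_mem _) (prod_mem_Hj (small_liftW p.2))) (inv_mem (Ψ_mem _))
  · exact (lift_conj hρ p.2).trans (isConj_iff.2 ⟨Ψ (g p.1), rfl⟩)

/-- The cosets fixed by the involution against its conjugates in the subgroup. -/
theorem count_le :
    Nat.card (Subgroup.centralizer {za}) * (30492 * 32) ≤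
      Nat.card {c : J4 ⧸ Hj // za • c = c} * Nat.card Hj := by
  obtain ⟨w, hw, hwm⟩ := exists_many hρ
  choose γ hγ using fun p => isConj_iff.1 (hwm p).2
  let T := {g : J4 // g⁻¹ * za * g ∈ Hj}
  have key : ∀ (c : Subgroup.centralizer {za}) (p : {τ : M24 // IsConj σ₂ τ} × Fin 32),
      ((c : J4) * (γ p)⁻¹)⁻¹ * za * ((c : J4) * (γ p)⁻¹) = w p := fun c p => by
    rw [← hγ p, mul_inv_rev, inv_inv]
    have hc := Subgroup.mem_centralizer_singleton_iff.1 c.2
    calc γ p * (c : J4)⁻¹ * za * ((c : J4) * (γ p)⁻¹) = γ p * ((c : J4)⁻¹ * (za * c)) * (γ p)⁻¹ := by group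
      _ = _ := by rw [← hc, inv_mul_cancel_left]
  let f : Subgroup.centralizer {za} × ({τ : M24 // IsConj σ₂ τ} × Fin 32) → T := fun q =>
    ⟨(q.1 : J4) * (γ q.2)⁻¹, by rw [key]; exact (hwm q.2).1⟩
  have hf : Function.Injective f := by
    rintro ⟨c, p⟩ ⟨c', p'⟩ e
    have e' : (c : J4) * (γ p)⁻¹ = (c' : J4) * (γ p')⁻¹ := congrArg Subtype.val e
    obtain rfl : p = p' := hw (by rw [← key c p, e', key c' p'])
    exact Prod.ext (Subtype.ext (mul_right_cancel e')) rfl
  have hz : za⁻¹ = za := inv_eq_of_mul_eq_one_right (za_sq hρ)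
  let k : T → {c : J4 ⧸ Hj // za • c = c} × Hj := fun g =>
    (⟨(g.1 : J4 ⧸ Hj), by
      rw [MulAction.Quotient.smul_mk, QuotientGroup.eq, smul_eq_mul, mul_inv_rev, hz]
      exact g.2⟩,
     ⟨((g.1 : J4 ⧸ Hj).out)⁻¹ * g.1, by
      rw [← QuotientGroup.eq]; exact QuotientGroup.out_eq' _⟩)
  have hk : Function.Injective k := by
    intro a b e
    simp only [k, Prod.mk.injEq] at e
    obtain ⟨e1, e2⟩ := e
    have e1' : ((a.1 : J4) : J4 ⧸ Hj) = (b.1 : J4) := congrArg Subtype.val e1
    have e2' := congrArg Subtype.val e2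
    simp only [e1'] at e2'
    exact Subtype.ext (mul_left_cancel e2')
  have h := (Nat.card_le_card_of_injective f hf).trans (Nat.card_le_card_of_injective k hk)
  rw [Nat.card_prod, Nat.card_prod, Nat.card_prod, Nat.card_fin] at h
  exact le_trans (Nat.mul_le_mul_left _ (Nat.mul_le_mul_right 32 class2_ge)) h

/-- At most `20 * 21504` cosets are fixed. -/
theorem fixed_le (r : Fin 20 → J4 ⧸ Hj) (hr : ∀ c : J4 ⧸ Hj, ∃ i, ∃ σ : M24, Ψ σ • r i = c) :
    Nat.card {c : J4 ⧸ Hj // za • c = c} ≤ 20 * 21504 := by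
  letI : MulAction M24 (J4 ⧸ Hj) := MulAction.compHom _ Ψ
  have hw := List.all_eq_true.1 words_small.1
  have hc := List.all_eq_true.1 words_small.2
  have h1 := conj_of_eqK hρ (L := word1) (G := conj1)
    (fun a ha => by have := hw a (List.mem_append_left _ ha); simp only [Nat.blt_eq] at this; omega)
    (fun a ha => by have := hc a (by simp [ha]); simp only [Nat.blt_eq] at this; omega) conj1_ok
  rw [← (σ_eq hρ).1] at h1
  obtain ⟨G, hG⟩ : ∃ G, G = (conj1.map el).prod := ⟨_, rfl⟩
  rw [← hG] at h1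
  have hfix : ∀ c : {c : J4 ⧸ Hj // za • c = c}, ∃ i : Fin 20,
      G • c.1 ∈ MulAction.orbit M24 (r i) ∧ σ₁ • (G • c.1) = G • c.1 := fun c => by
    obtain ⟨i, σ, h⟩ := hr (G • c.1)
    refine ⟨i, ⟨σ, h⟩, ?_⟩
    show Ψ σ₁ • G • c.1 = G • c.1
    rw [h1, mul_smul, inv_smul_smul, mul_smul, c.2]
  choose i hi using hfix
  let f : {c : J4 ⧸ Hj // za • c = c} →
      Σ k : Fin 20, {y : J4 ⧸ Hj // y ∈ MulAction.orbit M24 (r k) ∧ σ₁ • y = y} := fun c => ⟨i c, G • c.1, hi c⟩
  have hf : Function.Injective f := fun a b e =>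
    Subtype.ext (MulAction.injective G (congrArg (fun z : Σ k : Fin 20,
      {y : J4 ⧸ Hj // y ∈ MulAction.orbit M24 (r k) ∧ σ₁ • y = y} => (z.2 : J4 ⧸ Hj)) e))
  refine (Nat.card_le_card_of_injective f hf).trans ?_
  rw [Nat.card_sigma]
  refine (Finset.sum_le_sum fun k _ => (Counting.fixed_orbit_le (r k) σ₁).trans cent1_le).trans (le_of_eq ?_)
  simp

/-- The bound. -/
theorem card_centralizer_le (hcard : Nat.card J4 = 86775571046077562880)
    (hH : Nat.card Hj ≤ 501397585920)
    (r : Fin 20 → J4 ⧸ Hj) (hr : ∀ c : J4 ⧸ Hj, ∃ i, ∃ σ : M24, Ψ σ • r i = c) :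
    Nat.card (Subgroup.centralizer {za}) ≤ 21799895040 := by
  have hpos : 0 < Nat.card (Subgroup.centralizer {za}) := Nat.card_pos
  have hdiv : Nat.card (Subgroup.centralizer {za}) ∣ 86775571046077562880 :=
    hcard ▸ Subgroup.card_subgroup_dvd_card _
  have hsub : 21799895040 ∣ Nat.card (Subgroup.centralizer {za}) := by
    refine dvd_trans ?_ (Subgroup.card_dvd_of_le (Ss_le_centralizer hρ))
    have hmul := Subgroup.card_mul_index (phi : Ss →* M24).ker
    rw [Subgroup.index_ker, range_spec.1] at hmul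
    rw [← hmul]
    exact Nat.mul_dvd_mul (ker_dvd hρ) (dvd_refl 887040)
  have hb := (count_le hρ).trans (Nat.mul_le_mul (fixed_le hρ r hr) hH)
  generalize Nat.card (Subgroup.centralizer {za}) = c at hpos hdiv hsub hb ⊢
  obtain ⟨m, rfl⟩ := hsub
  have hm : m ≤ 10 := by omega
  have hm1 : m = 1 := by
    interval_cases m <;> first | rfl | omega | (revert hdiv; norm_num)
  omega

end

end CfsgLib.Sporadic.J4Cent.Upper
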