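import Cfsg.Agent.Lib.Sporadic.J4Cent.AbelianData
import Cfsg.Agent.Lib.Sporadic.J4Cent.Upper

/-!
# The subgroup generated by `x`, `y` and the involution has order at most `2 ^ 11 |M₂₄|`
-/

set_option autoImplicit false
set_option maxRecDepth 100000

namespace CfsgLib.Sporadic.J4Cent.Upper

open Cfsg Cfsg.Spor CosetCert CosetCert.J4M24
open scoped Pointwise

/-- An element of the abelian subgroup. -/
def baseW (i : ℕ) : List ℕ := baseA.getD i []

/-- The word of a product of those. -/
def expand (L : List ℕ) : List ℕ := L.flatMap baseW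

theorem baseA_data : baseA.length = 11 ∧ baseW 0 = [iA] ∧
    (baseA.flatten.all fun a => Nat.blt a 26) = true ∧
    (conjA.flatten.flatten.all fun a => Nat.blt a 11) = true := by decide +kernel

theorem baseA_sq : ∀ i < 11, eqK (baseW i ++ baseW i) [] = true := by decide +kernel

theorem baseA_comm : ∀ i < 11, ∀ j < i, eqK (baseW i ++ baseW j) (baseW j ++ baseW i) = true := by
  decide +kernel

theorem baseA_conj : ∀ i < 11,
    eqK ([0] ++ baseW i ++ [0]) (expand ((conjA.getD 0 []).getD i [])) = true ∧
    eqK ([1] ++ baseW i ++ [2]) (expand ((conjA.getD 1 []).getD i [])) = true := by decide +kernel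

theorem letters_inv : eqK [0, 0] [] = true ∧ eqK [1, 2] [] = true := by decide +kernel

attribute [local irreducible] eqK el ρ za

/-- The element at a position. -/
noncomputable def bA (i : ℕ) : J4 := ((baseW i).map el).prod

/-- The subgroup generated by the first members. -/
def Ak (k : ℕ) : Subgroup J4 := Subgroup.closure {g | ∃ i < k, bA i = g}

theorem baseW_lt {i : ℕ} (hi : i < 11) : ∀ a ∈ baseW i, a < 26 := fun a ha => by
  have h := List.all_eq_true.1 baseA_data.2.2.1 a (by
    rw [List.mem_flatten]
    refine ⟨baseA[i]'(baseA_data.1 ▸ hi), List.getElem_mem _, ?_⟩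
    rw [← List.getD_eq_getElem _ [] (baseA_data.1 ▸ hi)]
    exact ha)
  simpa using h

theorem prod_expand (L : List ℕ) : ((expand L).map el).prod = (L.map bA).prod := by
  induction L with
  | nil => rfl
  | cons a L ih =>
    rw [expand, List.flatMap_cons, List.map_append, List.prod_append, List.map_cons, List.prod_cons, ← expand, ih]
    rfl

section
variable (hρ : Function.Injective J4Rep.rep)
include hρ

theorem bA_sq {i : ℕ} (hi : i < 11) : bA i * bA i = 1 := by
  have := prod_eq hρ (baseA_sq i hi) (fun a ha => (List.mem_append.1 ha).elim (baseW_lt hi a) (baseW_lt hi a))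
    (by simp)
  simpa [List.map_append, bA] using this

theorem bA_comm {i j : ℕ} (hi : i < 11) (hj : j < 11) : Commute (bA i) (bA j) := by
  have h : ∀ i < 11, ∀ j < i, Commute (bA i) (bA j) := fun i hi j hj => by
    have hj11 : j < 11 := by omega
    have := prod_eq hρ (baseA_comm i hi j hj)
      (fun a ha => (List.mem_append.1 ha).elim (baseW_lt hi a) (baseW_lt hj11 a))
      (fun a ha => (List.mem_append.1 ha).elim (baseW_lt hj11 a) (baseW_lt hi a))
    rw [List.map_append, List.prod_append, List.map_append, List.prod_append] at this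
    exact this
  rcases Nat.lt_trichotomy j i with h' | rfl | h'
  exacts [h i hi j h', Commute.refl _, (h j hj i h').symm]

theorem card_Ak_le [Finite J4] : ∀ k ≤ 11, Nat.card (Ak k) ≤ 2 ^ k
  | 0, _ => by
    rw [show Ak 0 = ⊥ from by rw [Ak, Subgroup.closure_eq_bot_iff]; intro g; simp]
    simp
  | k + 1, hk => by
    have hle : Ak (k + 1) ≤ Ak k ⊔ Subgroup.zpowers (bA k) := by
      rw [Ak, Subgroup.closure_le]
      rintro _ ⟨i, hi, rfl⟩
      rcases Nat.lt_or_ge i k with h | h
      · exact (le_sup_left : Ak k ≤ _) (Subgroup.subset_closure ⟨i, h, rfl⟩)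
      · obtain rfl : i = k := by omega
        exact (le_sup_right : Subgroup.zpowers (bA i) ≤ _) (Subgroup.mem_zpowers _)
    have hc : ∀ g ∈ Ak k, Commute (bA k) g := by
      intro g hg
      have : Ak k ≤ Subgroup.centralizer {bA k} := by
        rw [Ak, Subgroup.closure_le]
        rintro _ ⟨i, hi, rfl⟩
        rw [SetLike.mem_coe, Subgroup.mem_centralizer_singleton_iff]
        exact (bA_comm hρ (by omega) (by omega)).eq
      exact (Subgroup.mem_centralizer_singleton_iff.1 (this hg)).symm
    refine (Subgroup.card_le_of_le hle).trans ((card_sup_le _ _ (fun g hg => ?_) ?_).trans ?_)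
    · rw [(hc g hg).eq, mul_inv_cancel_right]; exact hg
    · rw [bA_sq hρ (by omega)]; exact one_mem _
    · calc 2 * Nat.card (Ak k) ≤ 2 * 2 ^ k := Nat.mul_le_mul_left 2 (card_Ak_le k (by omega))
        _ = _ := by ring

theorem Ak_normal_gen [Finite J4] {g : ℕ} {gi : ℕ} (hg : g = 0 ∧ gi = 0 ∨ g = 1 ∧ gi = 2) :
    el g ∈ Subgroup.normalizer (Ak 11 : Set J4) := by
  have hinv : (el g)⁻¹ = el gi := by
    refine inv_eq_of_mul_eq_one_right ?_
    rcases hg with ⟨rfl, rfl⟩ | ⟨rfl, rfl⟩
    · simpa using prod_eq hρ letters_inv.1 (by simp) (by simp)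
    · simpa using prod_eq hρ letters_inv.2 (by simp) (by simp)
  have hle : (Ak 11).map (MulAut.conj (el g)).toMonoidHom ≤ Ak 11 := by
    rw [Ak, MonoidHom.map_closure, Subgroup.closure_le]
    rintro _ ⟨_, ⟨i, hi, rfl⟩, rfl⟩
    show el g * bA i * (el g)⁻¹ ∈ Subgroup.closure _
    have hk : ∀ k < 2, ∀ a ∈ ((conjA.getD k []).getD i []), a < 11 := fun k hk a ha => by
      refine Nat.le_of_ble_eq_true (List.all_eq_true.1 baseA_data.2.2.2 a ?_)
      rw [List.mem_flatten]
      refine ⟨(conjA.getD k []).getD i [], ?_, ha⟩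
      rw [List.mem_flatten]
      refine ⟨conjA.getD k [], ?_, ?_⟩
      · rw [List.getD_eq_getElem _ _ (show k < conjA.length by
          rw [show conjA.length = 2 from rfl]; exact hk)]
        exact List.getElem_mem _
      · by_cases h : i < (conjA.getD k []).length
        · rw [List.getD_eq_getElem _ _ h]; exact List.getElem_mem _
        · rw [List.getD_eq_default _ _ (by omega)] at ha; simp at ha
    have hb : ∀ k < 2, ∀ a ∈ expand ((conjA.getD k []).getD i []), a < 26 := fun k hk' a ha => by
      obtain ⟨c, hc, hac⟩ := List.mem_flatMap.1 ha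
      exact baseW_lt (hk k hk' c hc) a hac
    have key : ∃ k < 2, el g * bA i * (el g)⁻¹ = (((conjA.getD k []).getD i []).map bA).prod := by
      rw [hinv]
      rcases hg with ⟨rfl, rfl⟩ | ⟨rfl, rfl⟩
      · refine ⟨0, by norm_num, ?_⟩
        have := prod_eq hρ (baseA_conj i hi).1
          (fun a ha => by
            simp only [List.mem_append, List.mem_singleton] at ha
            rcases ha with (rfl | h) | rfl <;> first | omega | exact baseW_lt hi a h)
          (hb 0 (by norm_num))
        rw [prod_expand] at this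
        simpa [bA, mul_assoc, -List.getD_eq_getElem?_getD] using this
      · refine ⟨1, by norm_num, ?_⟩
        have := prod_eq hρ (baseA_conj i hi).2
          (fun a ha => by
            simp only [List.mem_append, List.mem_singleton] at ha
            rcases ha with (rfl | h) | rfl <;> first | omega | exact baseW_lt hi a h)
          (hb 1 (by norm_num))
        rw [prod_expand] at this
        simpa [bA, mul_assoc, -List.getD_eq_getElem?_getD] using this
    obtain ⟨k, hk2, e⟩ := key
    rw [e]
    exact list_prod_mem fun x hx => by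
      obtain ⟨c, hc, rfl⟩ := List.mem_map.1 hx
      exact Subgroup.subset_closure ⟨c, hk k hk2 c hc, rfl⟩
  have heq : (Ak 11).map (MulAut.conj (el g)).toMonoidHom = Ak 11 :=
    Subgroup.eq_of_le_of_card_ge hle
      (Subgroup.card_map_of_injective (f := (MulAut.conj (el g)).toMonoidHom) (MulAut.conj (el g)).injective).ge
  refine Subgroup.mem_normalizer_iff.2 fun h => ?_
  conv_rhs => rw [← heq]
  rw [show el g * h * (el g)⁻¹ = (MulAut.conj (el g)).toMonoidHom h by simp]
  exact (Subgroup.mem_map_iff_mem (f := (MulAut.conj (el g)).toMonoidHom) (MulAut.conj (el g)).injective).symm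

theorem card_Hj_le [Finite J4] : Nat.card Hj ≤ 501397585920 := by
  have hn : Ψ.range ≤ Subgroup.normalizer (Ak 11 : Set J4) := by
    have h : (Subgroup.normalizer (Ak 11 : Set J4)).comap Ψ = ⊤ := by
      refine eq_top_of_mem ?_ ?_ <;> rw [Subgroup.mem_comap]
      · rw [show px = (sBoth 0).2 from rfl, Ψ_sBoth]
        have := Ak_normal_gen hρ (g := 0) (gi := 0) (Or.inl ⟨rfl, rfl⟩)
        rwa [el_letter (by norm_num)] at this
      · rw [show py = (sBoth 1).2 from rfl, Ψ_sBoth]
        have := Ak_normal_gen hρ (g := 1) (gi := 2) (Or.inr ⟨rfl, rfl⟩)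
        rwa [el_letter (by norm_num)] at this
    rintro _ ⟨σ, rfl⟩
    exact (h ▸ Subgroup.mem_top σ : σ ∈ (Subgroup.normalizer (Ak 11 : Set J4)).comap Ψ)
  have hle : Hj ≤ Ak 11 ⊔ Ψ.range := by
    rw [Hj, Subgroup.closure_le]
    rintro _ (rfl | rfl | rfl)
    · refine (le_sup_right : Ψ.range ≤ _) ⟨(sBoth 0).2, ?_⟩
      rw [Ψ_sBoth, el_letter (show 0 < 3 by norm_num)]; rfl
    · refine (le_sup_right : Ψ.range ≤ _) ⟨(sBoth 1).2, ?_⟩
      rw [Ψ_sBoth, el_letter (show 1 < 3 by norm_num)]; rfl
    · refine (le_sup_left : Ak 11 ≤ _) (Subgroup.subset_closure ⟨0, by norm_num, ?_⟩)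
      rw [bA, baseA_data.2.1]
      simp
  refine (Subgroup.card_le_of_le hle).trans ?_
  rw [← SetLike.coe_sort_coe, Subgroup.coe_mul_of_right_le_normalizer_left _ _ hn]
  refine Set.natCard_mul_le.trans ?_
  rw [SetLike.coe_sort_coe, SetLike.coe_sort_coe, Nat.card_congr (MonoidHom.ofInjective Ψ_injective).toEquiv.symm,
    CfsgLib.SmallGroups.M24Group.card_M24]
  exact le_trans (Nat.mul_le_mul_right _ (card_Ak_le hρ 11 le_rfl)) (by norm_num)

end

end CfsgLib.Sporadic.J4Cent.Upper
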