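import Mathlib.Data.Nat.Notation

/-!
# Data for the abelian normal subgroup of order at most `2 ^ 11`

Machine-generated: words for eleven commuting involutions and their conjugates by the two generators.
-/

set_option autoImplicit false

namespace CfsgLib.Sporadic.J4Cent.Upper

/-- Eleven conjugates of the involution. -/
def baseA : List (List ℕ) := [[4],
  [0, 4, 0],
  [2, 0, 4, 0, 1],
  [0, 2, 0, 4, 0, 1, 0],
  [2, 2, 0, 4, 0, 1, 1],
  [2, 0, 2, 0, 4, 0, 1, 0, 1],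
  [0, 2, 2, 0, 4, 0, 1, 1, 0],
  [0, 2, 0, 2, 0, 4, 0, 1, 0, 1, 0],
  [2, 2, 0, 2, 0, 4, 0, 1, 0, 1, 1],
  [0, 2, 2, 0, 2, 0, 4, 0, 1, 0, 1, 1, 0],
  [2, 0, 2, 2, 0, 2, 0, 4, 0, 1, 0, 1, 1, 0, 1]]

/-- Their conjugates by the two generators as products. -/
def conjA : List (List (List ℕ)) := [[[1], [0], [3], [2], [6], [7], [4], [5], [9], [8], [5, 7, 10]],
  [[0], [4], [1], [8], [2], [3], [1, 4, 5, 6, 8], [1, 2, 7], [5], [2, 4, 6, 8, 9, 10], [9]]]

end CfsgLib.Sporadic.J4Cent.Upper
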