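import Cfsg.Agent.Lib.Sporadic.J4Index.Index
import Cfsg.Agent.Lib.Sporadic.J4Cent.Upper

/-!
# The double cosets feed the bound on the centraliser
-/

set_option autoImplicit false
set_option maxRecDepth 100000

namespace CfsgLib.Sporadic.J4Cent.Bridge

open Cfsg Cfsg.Spor CosetCert CosetCert.J4M24 J4Cent.Upper

attribute [local irreducible] eqK el ρ za

/-- The word of `u` with an inverse letter in front. -/
def wordU : List ℕ :=
  [1, 0, 1, 0, 2, 0, 2, 0, 2, 0, 2, 3, 1, 0, 1, 0, 1, 0, 1, 0, 2, 0]

theorem wordU_ok : eqK (wordU ++ wordU ++ wordU) [iA] = true ∧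
    (wordU.all fun a => Nat.blt a 4) = true := by decide +kernel

theorem gU_eq_za (hρ : Function.Injective J4Rep.rep) : J4Index.gU = za := by
  have h := prod_eq hρ wordU_ok.1 (fun a ha => by
    have := List.all_eq_true.1 wordU_ok.2 a (by
      rcases List.mem_append.1 ha with h | h
      · rcases List.mem_append.1 h with h | h <;> exact h
      · exact h)
    simp only [Nat.blt_eq] at this; omega) (by simp [idx_bounds.1])
  rw [List.map_append, List.map_append, List.prod_append, List.prod_append, List.map_singleton,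
    List.prod_singleton] at h
  have hx : (PresentedGroup.of J4.Gen.x : J4)⁻¹ = PresentedGroup.of J4.Gen.x := by
    refine hρ (Units.ext ?_)
    rw [map_inv, J4Rep.rep, PresentedGroup.toGroup.of]
    rfl
  have e : (wordU.map el).prod =
      J4Index.gY * ((J4Index.wordG J4Index.wU)⁻¹ * J4Index.gT * J4Index.wordG J4Index.wU) := by
    have e3 : el 3 = PresentedGroup.of J4.Gen.t := by
      have h : el 3 = ((els 22).take 4).getD 3 1 := by
        unfold el
        rw [List.getD_eq_getElem _ _ (by rw [length_els]; omega),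
          List.getD_eq_getElem _ _ (by rw [List.length_take, length_els]; omega), List.getElem_take]
      rw [h, letters_eq]
      rfl
    simp only [wordU, J4Index.wU, J4Index.wordG, J4Index.gX, J4Index.gY, J4Index.gT, List.map_cons, List.map_nil,
      List.prod_cons, List.prod_nil, List.getD_cons_zero, List.getD_cons_succ, el_letter (show 0 < 3 by norm_num),
      el_letter (show 1 < 3 by norm_num), el_letter (show 2 < 3 by norm_num), e3, mul_one, mul_inv_rev, inv_inv, hx]
    simp [val, code, sBoth, mul_assoc]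
  rw [J4Index.gU, ← e, show (3 : ℕ) = 1 + 1 + 1 from rfl, pow_succ, pow_succ, pow_one, h]
  unfold za
  rfl

theorem HS_eq (hρ : Function.Injective J4Rep.rep) : J4Index.HS = Hj := by
  have h0 : el 0 = J4Index.gX := by rw [el_letter (by norm_num)]; simp [val, code, sBoth, J4Index.gX]
  have h1 : el 1 = J4Index.gY := by rw [el_letter (by norm_num)]; simp [val, code, sBoth, J4Index.gY]
  rw [J4Index.HS, gU_eq_za hρ, Hj, h0, h1]
  unfold za
  rfl

theorem XY_le_range : J4Index.XY ≤ Ψ.range := by
  rw [J4Index.XY, Subgroup.closure_le]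
  rintro _ (rfl | rfl)
  · exact ⟨(sBoth 0).2, by rw [Ψ_sBoth]; simp [sBoth, J4Index.gX]⟩
  · exact ⟨(sBoth 1).2, by rw [Ψ_sBoth]; simp [sBoth, J4Index.gY]⟩

/-- Twenty orbits of `M₂₄` on the cosets. -/
theorem exists_cover (hρ : Function.Injective J4Rep.rep) :
    ∃ r : Fin 20 → J4 ⧸ Hj, ∀ c : J4 ⧸ Hj, ∃ i, ∃ σ : M24, Ψ σ • r i = c := by
  rw [← HS_eq hρ]
  refine ⟨fun i => (((J4Index.gN J4Index.pathsH i)⁻¹ : J4) : J4 ⧸ J4Index.HS), fun c => ?_⟩
  obtain ⟨⟨i, q⟩, hq⟩ := J4Index.cosetMap_surjective c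
  induction q using QuotientGroup.induction_on with
  | _ n =>
    obtain ⟨σ, hσ⟩ := XY_le_range n.2
    exact ⟨i, σ, by rw [hσ, ← hq]; rfl⟩

end CfsgLib.Sporadic.J4Cent.Bridge
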