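import Cfsg.Agent.Lib.Sporadic.J4M24.Main
import Cfsg.Agent.Lib.Sporadic.PackedMatrix
import Cfsg.Agent.Lib.Sporadic.J4Cent.UpperData
import Cfsg.Agent.Lib.Sporadic.J4Cent.Checks

/-!
# Kernel checks for the bound on an involution centraliser in the fourth Janko group
-/

set_option autoImplicit false
set_option maxRecDepth 100000

namespace CfsgLib.Sporadic.J4Cent.Upper

open BitMatrix OutCert Cfsg CfsgLib.SmallGroups.Golay CosetCert.J4M24 MathieuMultiplier

/-- The code in the other convention of a letter. -/
def code (a : ℕ) : ℕ := [0, 2, 3].getD a 0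

/-- The table of a word in the letters. -/
def tblW (L : List ℕ) : List ℕ := (List.range 24).map (actW (L.map code))

/-- A product of the moving elements. -/
def moveW (j : ℕ) : List ℕ :=
  (List.range 5).flatMap fun i => if j.testBit i then moveWords.getD i [] else []

/-- The product in the reverse order. -/
def moveR (j : ℕ) : List ℕ :=
  (List.range 5).reverse.flatMap fun i => if j.testBit i then moveWords.getD i [] else []

/-- The members lying over the second involution. -/
def liftW (j : ℕ) : List ℕ := moveW j ++ word0 ++ moveR j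

/-- Conjugate of a table by a table. -/
def conjTbl (g t : List ℕ) : List ℕ := (List.range 24).map fun i => g.getD (t.getD ((invTbl g).getD i 0) 0) 0

/-- A list of numbers without repetitions, the numbers being computed once. -/
noncomputable def noDupK (l : List ℕ) : Bool := PackedMatrix.forceList l fun r => decide r.Nodup

theorem noDupK_spec {l : List ℕ} (h : noDupK l = true) : l.Nodup := by
  rwa [noDupK, PackedMatrix.forceList_eq, decide_eq_true_eq] at h

theorem words_small : (word1 ++ word2).all (fun a => Nat.blt a 3) = true ∧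
    (word0 ++ conj1 ++ conj2 ++ moveWords.flatten).all (fun a => Nat.blt a 5) = true := by decide +kernel

theorem conj1_ok : eqK (word1 ++ conj1) (conj1 ++ [iA]) = true := by decide +kernel

theorem conj2_ok : eqK (word0 ++ conj2) (conj2 ++ [iA]) = true := by decide +kernel

theorem move_inv : ∀ j < 32, eqK (moveW j ++ moveR j) [] = true := by decide +kernel

theorem lift_proj : ∀ j < 32, eqK ((liftW j).filter fun a => !Nat.beq a 4) word2 = true := by decide +kernel

theorem lift_distinct : noDupK ((List.range 32).map fun j => valK (liftW j)) = true := by decide +kernel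

/-- The four positions of the generators of the subgroup. -/
def genPos : List ℕ := [0, 1, 2, 4]

theorem layer_fix : ∀ k < 4, apF (mat (genPos.getD k 0)) vec0 = vec0 := by decide +kernel

theorem layer_rows : ∀ k < 4, ∀ r < 11, apF (mat (genPos.getD k 0)) (basB.getD r 0) =
    apF basB ((modLayer.getD k ([], [])).1.getD r 0) ^^^
      (if (modLayer.getD k ([], [])).2.getD r 0 = 1 then vec0 else 0) := by decide +kernel

theorem layer_data : basB.length = 11 ∧ projB.length = 112 ∧ vec0 < 2 ^ 112 ∧ (∀ b ∈ basB, b < 2 ^ 112) ∧
    basB.map (apF projB) = one 11 ∧ apF projB vec0 = 0 ∧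
    (∀ k < 4, (modLayer.getD k ([], [])).1.length = 11) ∧
    (modLayer.getD 3 ([], [])).1 = one 11 ∧ (modLayer.getD 0 ([], [])).1 ≠ one 11 := by decide +kernel

theorem sig1_ok : IsTbl (tblW word1) ∧
    ((List.range 24).flatMap fun p => (List.range 24).filterMap fun a =>
      if (tblW word1).getD p 0 = p ∧ (tblW word1).getD a 0 ≠ a then some (p, a) else none).length = 128 := by
  decide +kernel

theorem sig2_ok : IsTbl (tblW word2) ∧ ∀ i < 24, (tblW word2).getD i 0 ≠ i := by decide +kernel

theorem sel1_tbl : ∀ g ∈ sel1, IsTbl g := by decide +kernel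

theorem sel2_tbl : ∀ g ∈ sel2, IsTbl g := by decide +kernel

theorem sel1_pat : sel1.length = 120 ∧ ∀ g ∈ sel1,
    (conjTbl g (tblW word1)).getD 23 0 = 23 ∧ (conjTbl g (tblW word1)).getD 0 0 = 12 ∧
      (conjTbl g (tblW word1)).getD 12 0 = 0 := by decide +kernel

theorem sel2_pat : sel2.length = 66 ∧ ∀ g ∈ sel2,
    (conjTbl g (tblW word2)).getD 23 0 = 0 ∧ (conjTbl g (tblW word2)).getD 0 0 = 23 ∧
      (conjTbl g (tblW word2)).getD 12 0 = 14 ∧ (conjTbl g (tblW word2)).getD 14 0 = 12 := by decide +kernel

theorem sel_distinct : noDupK (sel1.map fun g => pk 5 (conjTbl g (tblW word1))) = true ∧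
    noDupK (sel2.map fun g => pk 5 (conjTbl g (tblW word2))) = true := by decide +kernel

end CfsgLib.Sporadic.J4Cent.Upper
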