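import Cfsg.Agent.Lib.Sporadic.J4Cent.Counting
import Cfsg.Agent.Lib.Sporadic.J4Cent.UpperChecks
import Cfsg.Agent.Lib.Sporadic.J4Cent.Elements

/-!
# `M₂₄` inside the presented fourth Janko group, and two classes of involutions
-/

set_option autoImplicit false
set_option maxRecDepth 100000

namespace CfsgLib.Sporadic.J4Cent.Upper

open BitMatrix OutCert Cfsg Cfsg.Spor CfsgLib.SmallGroups.Golay CosetCert CosetCert.J4M24 MathieuMultiplier

attribute [local irreducible] eqK el ρ valK

/-- The inverse of the projection from the pairs. -/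
noncomputable def pairEquiv : pairs ≃* M24 :=
  MulEquiv.ofBijective ((MonoidHom.snd J4P M24).comp pairs.subtype) pairs_bij

/-- `M₂₄` as a subgroup of the presented group. -/
noncomputable def Ψ : M24 →* J4 :=
  ((MonoidHom.fst J4P M24).comp pairs.subtype).comp pairEquiv.symm.toMonoidHom

theorem Ψ_sBoth (k : ℕ) : Ψ (sBoth k).2 = (sBoth k).1 := by
  have h : pairEquiv ⟨sBoth k, sBoth_mem k⟩ = (sBoth k).2 := rfl
  show ((pairEquiv.symm (sBoth k).2 : pairs) : J4P × M24).1 = _
  rw [← h, MulEquiv.symm_apply_apply]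

theorem Ψ_injective : Function.Injective Ψ := by
  have : IsSimpleGroup M24 := CfsgLib.SmallGroups.MathieuSimple.isSimple_M24
  rw [← MonoidHom.ker_eq_bot_iff]
  refine (Subgroup.Normal.eq_bot_or_eq_top (MonoidHom.normal_ker Ψ)).resolve_right fun hk => ?_
  have h : (sBoth 0).2 ∈ Ψ.ker := by rw [hk]; exact Subgroup.mem_top _
  rw [MonoidHom.mem_ker, Ψ_sBoth] at h
  exact J4Rep.x_ne_one (by simpa [sBoth] using h)

/-- The permutation of a word. -/
def sigW (L : List ℕ) : M24 := ev (fun k => (sBoth k).2) (L.map code)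

theorem letters_eq : (els 22).take 4 = [PresentedGroup.of J4.Gen.x, PresentedGroup.of J4.Gen.y,
    (PresentedGroup.of J4.Gen.y)⁻¹, PresentedGroup.of J4.Gen.t] := by
  have h : ∀ n, (els n).take 4 = els 0 := by
    intro n
    induction n with
    | zero => rfl
    | succ n ih =>
      conv_lhs => rw [els]
      rw [List.take_append_of_le_length (by rw [length_els]; omega), ih]
  exact h 22

theorem el_letter {a : ℕ} (ha : a < 3) : el a = val (fun k => (sBoth k).1) (code a) := by
  have h : el a = ((els 22).take 4).getD a 1 := by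
    unfold el
    rw [List.getD_eq_getElem _ _ (by rw [length_els]; omega),
      List.getD_eq_getElem _ _ (by rw [List.length_take, length_els]; omega), List.getElem_take]
  rw [h, letters_eq]
  rcases (show a = 0 ∨ a = 1 ∨ a = 2 by omega) with rfl | rfl | rfl <;> simp [val, code, sBoth]

theorem Ψ_sigW {L : List ℕ} (hL : ∀ a ∈ L, a < 3) : Ψ (sigW L) = (L.map el).prod := by
  rw [sigW, ev_map Ψ, show (fun k => Ψ (sBoth k).2) = fun k => (sBoth k).1 from funext Ψ_sBoth, ev,
    List.map_map]
  exact congrArg _ (List.map_congr_left fun a ha => (el_letter (hL a ha)).symm)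

theorem idx_sigW (L : List ℕ) (p : GolayPt) :
    idx (((sigW L : M24) : Equiv.Perm GolayPt) p) = (tblW L).getD (idx p) 0 := by
  rw [sigW, ev_idx, tblW, List.getD_eq_getElem _ _ (by simp [idx_lt p]), List.getElem_map, List.getElem_range]

/-- The first involution. -/
noncomputable def σ₁ : M24 := sigW word1

/-- The second involution. -/
noncomputable def σ₂ : M24 := sigW word2

/-- The conjugate by the element of a table. -/
def conjT {g : List ℕ} (h : IsTbl g) (σ : M24) : M24 :=
  ⟨tperm g h, tperm_mem g h⟩ * σ * ⟨tperm g h, tperm_mem g h⟩⁻¹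

theorem idx_conjT {g L : List ℕ} (h : IsTbl g) (hg : ∀ i < 24, g.getD i 0 < 24 ∧ (invTbl g).getD i 0 < 24)
    (p : GolayPt) :
    idx (((conjT h (sigW L) : M24) : Equiv.Perm GolayPt) p) = (conjTbl g (tblW L)).getD (idx p) 0 := by
  obtain ⟨q, hq⟩ : ∃ q, q = ((sigW L : M24) : Equiv.Perm GolayPt) (tfun (invTbl g) p) := ⟨_, rfl⟩
  show idx (tfun g (((sigW L : M24) : Equiv.Perm GolayPt) (tfun (invTbl g) p))) = _
  rw [← hq, conjTbl, List.getD_eq_getElem (((List.range 24).map _)) _ (by simp [idx_lt p]), List.getElem_map,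
    List.getElem_range, tfun, idx_pt (hg _ (idx_lt q)).1, hq, idx_sigW, tfun, idx_pt (hg _ (idx_lt p)).2]

theorem sel_bound : ∀ g ∈ sel1 ++ sel2, ∀ i < 24, g.getD i 0 < 24 ∧ (invTbl g).getD i 0 < 24 := by
  decide +kernel

theorem pk_tbl_eq {A B : List ℕ} (hA : A.length = 24) (hB : B.length = 24)
    (h : ∀ i < 24, A.getD i 0 = B.getD i 0) : pk 5 A = pk 5 B := by
  congr 1
  refine List.ext_getElem (hA.trans hB.symm) fun i h1 h2 => ?_
  rw [← List.getD_eq_getElem _ 0 h1, ← List.getD_eq_getElem _ 0 h2]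
  exact h i (hA ▸ h1)

theorem conj_injective {S L : List ℕ} (sel : List (List ℕ)) (hsub : ∀ g ∈ sel, g ∈ sel1 ++ sel2)
    (ht : ∀ g ∈ sel, IsTbl g) (hS : S = tblW L)
    (hd : noDupK (sel.map fun g => pk 5 (conjTbl g S)) = true) :
    Function.Injective fun j : Fin sel.length => conjT (ht _ (List.getElem_mem j.2)) (sigW L) := by
  subst hS
  intro i j e
  have hn := noDupK_spec hd
  refine Fin.ext ((List.Nodup.getElem_inj_iff hn (hi := by simp [i.2]) (hj := by simp [j.2])).1 ?_)
  rw [List.getElem_map, List.getElem_map]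
  refine pk_tbl_eq (by simp [conjTbl]) (by simp [conjTbl]) fun k hk => ?_
  have := congrArg (fun σ : M24 => idx ((σ : Equiv.Perm GolayPt) (pt k))) e
  simp only [idx_conjT _ (sel_bound _ (hsub _ (List.getElem_mem i.2))),
    idx_conjT _ (sel_bound _ (hsub _ (List.getElem_mem j.2))), idx_pt hk] at this
  exact this

theorem isConj_conjT {g : List ℕ} (h : IsTbl g) (σ : M24) : IsConj σ (conjT h σ) :=
  isConj_iff.2 ⟨_, rfl⟩

/-- Points of a list of positions. -/
def ptsOf {m : ℕ} (l : Fin m → ℕ) (h : Function.Injective fun i => pt (l i)) : Fin m ↪ GolayPt :=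
  ⟨_, h⟩

theorem card_emb (m : ℕ) : Nat.card (Fin m ↪ GolayPt) = Nat.descFactorial 24 m := by
  rw [Nat.card_eq_fintype_card, Fintype.card_embedding_eq, Fintype.card_fin, CfsgLib.SmallGroups.GolayOctads.card_golayPt]

theorem transitive {m : ℕ} (hm : m ≤ 5) (x y : Fin m ↪ GolayPt) : ∃ g : M24, ∀ i, g • x i = y i :=
  CfsgLib.SmallGroups.MathieuSimple.exists_map_of_le hm x y

theorem class1_ge : 11385 ≤ Nat.card {τ : M24 // IsConj σ₁ τ} := by
  have h := Counting.class_ge (K := M24) (Ω := GolayPt) (m := 3) (transitive (by norm_num)) σ₁ ![0, 2, 1]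
    (d := 128) ?_ (ptsOf ![23, 0, 12] (by decide +kernel))
    (conj_injective sel1 (fun g hg => List.mem_append_left _ hg) sel1_tbl rfl sel_distinct.1)
    (fun j => isConj_conjT _ _) (fun j i => idx_injective ?_)
  · rw [card_emb, sel1_pat.1] at h
    generalize Nat.card {τ : M24 // IsConj σ₁ τ} = c at h ⊢
    norm_num [Nat.descFactorial] at h
    omega
  · rw [← sig1_ok.2, ← Fintype.card_fin (List.length _), ← Nat.card_eq_fintype_card]
    set l := (List.range 24).flatMap fun p => (List.range 24).filterMap fun a =>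
      if (tblW word1).getD p 0 = p ∧ (tblW word1).getD a 0 ≠ a then some (p, a) else none with hl
    have hmem : ∀ x : {x : Fin 3 ↪ GolayPt // ∀ i, σ₁ • x i = x (![0, 2, 1] i)},
        ∃ k : Fin l.length, l.get k = (idx (x.1 0), idx (x.1 1)) := fun x => by
      refine List.mem_iff_get.1 ?_
      simp only [hl, List.mem_flatMap, List.mem_range, List.mem_filterMap]
      refine ⟨_, idx_lt (x.1 0), _, idx_lt (x.1 1), ?_⟩
      rw [if_pos]
      refine ⟨?_, ?_⟩
      · rw [← idx_sigW]; exact congrArg idx (x.2 0)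
      · rw [← idx_sigW]
        intro e
        have e1 : x.1 2 = x.1 1 := (x.2 1).symm.trans (idx_injective e)
        exact absurd (x.1.injective e1) (by decide)
    choose k hk using hmem
    refine Nat.card_le_card_of_injective k fun x y e => ?_
    have e' := (hk x).symm.trans ((congrArg l.get e).trans (hk y))
    have h0 : x.1 0 = y.1 0 := idx_injective (congrArg Prod.fst e')
    have h1 : x.1 1 = y.1 1 := idx_injective (congrArg Prod.snd e')
    refine Subtype.ext (Function.Embedding.ext fun i => ?_)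
    fin_cases i
    · exact h0
    · exact h1
    · show x.1 2 = y.1 2
      exact (x.2 1).symm.trans ((congrArg (fun p => σ₁ • p) h1).trans (y.2 1))
  · obtain ⟨p0, p1, p2⟩ := sel1_pat.2 _ (List.getElem_mem j.2)
    show idx (((conjT _ (sigW word1) : M24) : Equiv.Perm GolayPt) _) = _
    rw [idx_conjT _ (sel_bound _ (List.mem_append_left _ (List.getElem_mem j.2)))]
    fin_cases i
    · exact p0
    · exact p1
    · exact p2

theorem cent1_le : Nat.card (Subgroup.centralizer {σ₁}) ≤ 21504 := by
  have h := Counting.class_mul_centralizer (σ₁ : M24)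
  rw [CfsgLib.SmallGroups.M24Group.card_M24] at h
  have := Nat.mul_le_mul_right (Nat.card (Subgroup.centralizer {σ₁})) class1_ge
  omega

theorem class2_ge : 30492 ≤ Nat.card {τ : M24 // IsConj σ₂ τ} := by
  have h := Counting.class_ge (K := M24) (Ω := GolayPt) (m := 4) (transitive (by norm_num)) σ₂ ![1, 0, 3, 2]
    (d := 552) ?_ (ptsOf ![23, 0, 12, 14] (by decide +kernel))
    (conj_injective sel2 (fun g hg => List.mem_append_right _ hg) sel2_tbl rfl sel_distinct.2)
    (fun j => isConj_conjT _ _) (fun j i => idx_injective ?_)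
  · rw [card_emb, sel2_pat.1] at h
    generalize Nat.card {τ : M24 // IsConj σ₂ τ} = c at h ⊢
    norm_num [Nat.descFactorial] at h
    omega
  · rw [show (552 : ℕ) = Nat.card (Fin 2 ↪ GolayPt) by rw [card_emb]; rfl]
    refine Nat.card_le_card_of_injective
      (fun x => (⟨![0, 2], by decide⟩ : Fin 2 ↪ Fin 4).trans x.1) fun x y e => ?_
    have h0 : x.1 0 = y.1 0 := congrArg (fun z : Fin 2 ↪ GolayPt => z 0) e
    have h2 : x.1 2 = y.1 2 := congrArg (fun z : Fin 2 ↪ GolayPt => z 1) e
    refine Subtype.ext (Function.Embedding.ext fun i => ?_)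
    fin_cases i
    · exact h0
    · show x.1 1 = y.1 1
      exact (x.2 0).symm.trans ((congrArg (fun p => σ₂ • p) h0).trans (y.2 0))
    · exact h2
    · show x.1 3 = y.1 3
      exact (x.2 2).symm.trans ((congrArg (fun p => σ₂ • p) h2).trans (y.2 2))
  · obtain ⟨p0, p1, p2, p3⟩ := sel2_pat.2 _ (List.getElem_mem j.2)
    show idx (((conjT _ (sigW word2) : M24) : Equiv.Perm GolayPt) _) = _
    rw [idx_conjT _ (sel_bound _ (List.mem_append_right _ (List.getElem_mem j.2)))]
    fin_cases i
    · exact p0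
    · exact p1
    · exact p2
    · exact p3

end CfsgLib.Sporadic.J4Cent.Upper
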