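import Mathlib

/-!
# Counting with fixed points and with patterns of conjugates
-/

set_option autoImplicit false

namespace CfsgLib.Sporadic.J4Cent.Counting

/-- In one orbit a permutation fixes at most as many points as its centraliser has elements. -/
theorem fixed_orbit_le {K X : Type*} [Group K] [Finite K] [MulAction K X] (x : X) (σ : K) :
    Nat.card {y : X // y ∈ MulAction.orbit K x ∧ σ • y = y} ≤ Nat.card (Subgroup.centralizer {σ}) := by
  classical
  let F := {y : X // y ∈ MulAction.orbit K x ∧ σ • y = y}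
  let S := MulAction.stabilizer K x
  let T := {k : K // k⁻¹ * σ * k ∈ S}
  have hk : ∀ y : F, ∃ k : K, k • x = (y : X) := fun y => MulAction.mem_orbit_iff.1 y.2.1
  let k : F → K := fun y => (hk y).choose
  have hks : ∀ y, k y • x = (y : X) := fun y => (hk y).choose_spec
  let f : F × S → T := fun p => ⟨k p.1 * (p.2 : K), by
    have h2 : (p.2 : K) • x = x := p.2.2
    rw [MulAction.mem_stabilizer_iff, mul_inv_rev, mul_smul, mul_smul, mul_smul, mul_smul, h2, hks, p.1.2.2,
      inv_smul_eq_iff, inv_smul_eq_iff, h2, hks]⟩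
  have hf : Function.Injective f := by
    rintro ⟨y, s⟩ ⟨y', s'⟩ e
    have e' : k y * (s : K) = k y' * (s' : K) := congrArg Subtype.val e
    have hy : (y : X) = y' := by
      have := congrArg (fun t : K => t • x) e'
      simp only [mul_smul, show (s : K) • x = x from s.2, show (s' : K) • x = x from s'.2, hks] at this
      exact this
    obtain rfl : y = y' := Subtype.ext hy
    exact Prod.ext rfl (Subtype.ext (mul_left_cancel e'))
  have hc : ∀ s : S, ∃ c : K, (∃ k : K, k⁻¹ * σ * k = (s : K)) → c⁻¹ * σ * c = (s : K) := fun s => by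
    by_cases h : ∃ k : K, k⁻¹ * σ * k = (s : K)
    · exact ⟨h.choose, fun _ => h.choose_spec⟩
    · exact ⟨1, fun h' => absurd h' h⟩
  choose c hc using hc
  let g : T → S × Subgroup.centralizer {σ} := fun t => (⟨t.1⁻¹ * σ * t.1, t.2⟩,
    ⟨t.1 * (c ⟨t.1⁻¹ * σ * t.1, t.2⟩)⁻¹, by
      have h := hc ⟨t.1⁻¹ * σ * t.1, t.2⟩ ⟨t.1, rfl⟩
      simp only at h
      generalize c ⟨t.1⁻¹ * σ * t.1, t.2⟩ = d at h ⊢
      rw [Subgroup.mem_centralizer_singleton_iff]
      calc t.1 * d⁻¹ * σ = t.1 * (d⁻¹ * σ * d) * d⁻¹ := by group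
        _ = σ * (t.1 * d⁻¹) := by rw [h]; group⟩)
  have hg : Function.Injective g := by
    intro t t' e
    simp only [g, Prod.mk.injEq] at e
    obtain ⟨e1, e2⟩ := e
    have e2' := congrArg Subtype.val e2
    simp only [e1] at e2'
    exact Subtype.ext (mul_right_cancel e2')
  have h := (Nat.card_le_card_of_injective f hf).trans (Nat.card_le_card_of_injective g hg)
  rw [Nat.card_prod, Nat.card_prod, mul_comm (Nat.card S)] at h
  exact Nat.le_of_mul_le_mul_right h Nat.card_pos

/-- A conjugacy class is large if enough members show a pattern on one tuple and the group moves all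
tuples to each other. -/
theorem class_ge {K Ω : Type*} [Group K] [Finite K] [MulAction K Ω] [Finite Ω] {m : ℕ}
    (htr : ∀ x y : Fin m ↪ Ω, ∃ g : K, ∀ i, g • x i = y i)
    (σ : K) (ι : Fin m → Fin m) {d L : ℕ}
    (hd : Nat.card {x : Fin m ↪ Ω // ∀ i, σ • x i = x (ι i)} ≤ d)
    (x0 : Fin m ↪ Ω) {τ : Fin L → K} (hτi : Function.Injective τ) (hτc : ∀ j, IsConj σ (τ j))
    (hτ : ∀ j i, τ j • x0 i = x0 (ι i)) :
    L * Nat.card (Fin m ↪ Ω) ≤ Nat.card {τ : K // IsConj σ τ} * d := by
  classical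
  haveI := Fintype.ofFinite K
  haveI := Fintype.ofFinite Ω
  let Cl := {τ : K // IsConj σ τ}
  have hD : ∀ t : Cl, Nat.card {x : Fin m ↪ Ω // ∀ i, t.1 • x i = x (ι i)} ≤ d := by
    rintro ⟨t, ht⟩
    obtain ⟨g, rfl⟩ := isConj_iff.1 ht
    let q : {x : Fin m ↪ Ω // ∀ i, (g * σ * g⁻¹) • x i = x (ι i)} → {x : Fin m ↪ Ω // ∀ i, σ • x i = x (ι i)} :=
      fun x => ⟨⟨fun i => g⁻¹ • x.1 i, (MulAction.injective g⁻¹).comp x.1.injective⟩, fun i => by
        show σ • g⁻¹ • x.1 i = g⁻¹ • x.1 (ι i)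
        rw [eq_inv_smul_iff, ← x.2 i, mul_smul, mul_smul]⟩
    refine le_trans (Nat.card_le_card_of_injective q fun x y e => Subtype.ext (Function.Embedding.ext fun i =>
      MulAction.injective g⁻¹ ?_)) hd
    exact congrArg (fun z : {x : Fin m ↪ Ω // ∀ i, σ • x i = x (ι i)} => z.1 i) e
  choose g hg using fun x => htr x0 x
  let f : Fin L × (Fin m ↪ Ω) → Σ t : Cl, {x : Fin m ↪ Ω // ∀ i, t.1 • x i = x (ι i)} := fun p =>
    ⟨⟨g p.2 * τ p.1 * (g p.2)⁻¹, (hτc p.1).trans (isConj_iff.2 ⟨g p.2, rfl⟩)⟩, p.2, fun i => by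
      show (g p.2 * τ p.1 * (g p.2)⁻¹) • p.2 i = p.2 (ι i)
      rw [← hg p.2 i, mul_smul, mul_smul, inv_smul_smul, hτ, hg]⟩
  have hf : Function.Injective f := by
    rintro ⟨j, x⟩ ⟨j', x'⟩ e
    have hx : x = x' := congrArg (fun z : Σ t : Cl, {x : Fin m ↪ Ω // ∀ i, t.1 • x i = x (ι i)} => z.2.1) e
    subst hx
    have := congrArg (fun z : Σ t : Cl, {x : Fin m ↪ Ω // ∀ i, t.1 • x i = x (ι i)} => z.1.1) e
    exact Prod.ext (hτi (mul_left_cancel (mul_right_cancel this))) rfl
  have h := Nat.card_le_card_of_injective f hf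
  rw [Nat.card_prod, Nat.card_fin, Nat.card_sigma] at h
  refine h.trans ((Finset.sum_le_sum fun t _ => hD t).trans ?_)
  rw [Finset.sum_const, Finset.card_univ, smul_eq_mul, Nat.card_eq_fintype_card (α := Cl)]

/-- The size of a class times the order of a centraliser. -/
theorem class_mul_centralizer {K : Type*} [Group K] [Finite K] (σ : K) :
    Nat.card {τ : K // IsConj σ τ} * Nat.card (Subgroup.centralizer {σ}) = Nat.card K := by
  have h1 : Nat.card {τ : K // IsConj σ τ} = (MulAction.orbit (ConjAct K) σ).ncard := by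
    rw [← Nat.card_coe_set_eq]
    refine Nat.card_congr (Equiv.subtypeEquivRight fun τ => ?_)
    rw [ConjAct.mem_orbit_conjAct, isConj_comm]
  rw [h1, ← MulAction.index_stabilizer, ConjAct.stabilizer_eq_centralizer]
  have h2 := (Subgroup.centralizer ({σ} : Set K)).card_mul_index
  rw [mul_comm] at h2
  exact h2

end CfsgLib.Sporadic.J4Cent.Counting
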