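import Cfsg.Agent.Lib.Sporadic.J4Cent.Abelian
import Cfsg.Agent.Lib.Sporadic.J4Cent.Bridge

/-!
# An involution centraliser in the presented fourth Janko group, from its order and simplicity
-/

set_option autoImplicit false

namespace CfsgLib.Sporadic.J4Cent

open Cfsg CfsgLib.Sporadic

/-- Once the presented group is simple of the right order, it has the involution centraliser of `J₄`. -/
theorem exists_centralizer_structure [hs : IsSimpleGroup Cfsg.Spor.J4]
    (hc : Nat.card Cfsg.Spor.J4 = 86775571046077562880) :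
    ∃ (G : Type) (_ : Group G) (_ : Finite G), Cfsg.IsJ4 G ∧ ∃ z : G, orderOf z = 2 ∧ ∃ (Q N M : Subgroup (Subgroup.centralizer ({z} : Set G))), Q.Normal ∧ N.Normal ∧ Q ≤ N ∧ N ≤ M ∧ Nat.card Q = 2 ^ 13 ∧ Cfsg.IsExtraspecial 2 Q ∧ Nat.card N = 3 * 2 ^ 13 ∧ M.index = 2 ∧ ∃ (_ : (N.subgroupOf M).Normal), Cfsg.IsM22 (M ⧸ N.subgroupOf M) := by
  have : Finite Cfsg.Spor.J4 := Nat.finite_of_card_ne_zero (by rw [hc]; norm_num)
  have hρ : Function.Injective J4Rep.rep := by
    rw [← MonoidHom.ker_eq_bot_iff]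
    refine (Subgroup.Normal.eq_bot_or_eq_top (MonoidHom.normal_ker _)).resolve_right fun hk => ?_
    exact J4Rep.rep_x_ne_one (MonoidHom.mem_ker.1 (hk ▸ Subgroup.mem_top _))
  obtain ⟨r, hr⟩ := Bridge.exists_cover hρ
  exact ⟨Cfsg.Spor.J4, inferInstance, this, ⟨hs, hc⟩, structure_of_bound hρ
    (Upper.card_centralizer_le hρ hc (Upper.card_Hj_le hρ) r hr)⟩

end CfsgLib.Sporadic.J4Cent
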